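import Cfsg.Agent.Compute.Classes

/-!
Centraliser counting with pruning on every pair of processed base points: an element `g` commuting
with `x` has `g (x b) = x (g b)`, known as soon as `b` and `x b` are both processed base points.
-/

set_option autoImplicit false

namespace Cfsg.Agent.Compute

variable {R : Type} {G : Type*} [Group G] {o : Ops R}

/-- Consistency of a partial word with commutation on the processed base points. -/
noncomputable def pairPrune (o : Ops R) (x : R) (done : List ℕ) (pre : List R) : Bool :=
  lall done (fun b => cond (Option.isSome (lfind done (fun c => Nat.beq c (o.img x b))))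
    (Nat.beq (o.img x (imgW o pre b)) (imgW o pre (o.img x b))) true)

/-- Words of the elements commuting with `x`. -/
noncomputable def centEnum2 (o : Ops R) (root : List ℕ) (x : R) (ls : List (Level R)) :
    List R → List ℕ → List (List R) :=
  List.rec
    (fun pre _ => cond (lall root (fun b =>
      Nat.beq (imgW o pre (o.img x b)) (o.img x (imgW o pre b)))) [pre] [])
    (fun l _ ih pre done => lflat l.orb (fun e =>
      cond (pairPrune o x (l.base :: done) (pre ++ [e.u])) (ih (pre ++ [e.u]) (l.base :: done)) []))
    ls

/-- The number of elements of the chain's group commuting with `x`. -/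
noncomputable def centCount2 (o : Ops R) (ls : List (Level R)) (x : R) : ℕ :=
  (centEnum2 o (basesOf ls) x ls [] []).length

theorem centEnum2_spec (S : Sound (G := G) o) {root : List (Level R)}
    (hroot : checkChain o root = true) {x : R} (hx : S.ok x) (hxm : S.den x ∈ S.grp root) :
    ∀ {ls : List (Level R)}, checkChain o ls = true → S.grp ls ≤ S.grp root →
      ∀ pre done, (∀ a ∈ pre, S.ok a) → wden S pre ∈ S.grp root →
      (∀ d ∈ done, ∀ h ∈ S.grp ls, S.act h d = d) →
      ((centEnum2 o (basesOf root) x ls pre done).map (wden S)).Nodup ∧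
      ∀ g : G, g ∈ (centEnum2 o (basesOf root) x ls pre done).map (wden S) ↔
        ∃ h ∈ S.grp ls, g = wden S pre * h ∧ Commute g (S.den x) := by
  intro ls
  induction ls with
  | nil =>
    intro _ _ pre done hpre hm _
    have key : lall (basesOf root) (fun b => Nat.beq (imgW o pre (o.img x b))
        (o.img x (imgW o pre b))) = true ↔ Commute (wden S pre) (S.den x) := by
      rw [lall_iff]
      constructor
      · intro h
        refine eq_of_bases S hroot (Subgroup.mul_mem _ hm hxm) (Subgroup.mul_mem _ hxm hm) ?_
        intro b hb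
        have := Nat.eq_of_beq_eq_true (h b hb)
        rwa [imgW_eq S pre hpre, imgW_eq S pre hpre, S.img_eq hx, S.img_eq hx, ← S.act_mul,
          ← S.act_mul] at this
      · intro h b _
        rw [imgW_eq S pre hpre, imgW_eq S pre hpre, S.img_eq hx, S.img_eq hx, ← S.act_mul,
          ← S.act_mul, h.eq]
        exact Nat.beq_refl _
    have hbot : ∀ h : G, h ∈ S.grp ([] : List (Level R)) ↔ h = 1 := fun h => by
      simp [Sound.grp, nextGens]
    show ((cond _ [pre] []).map (wden S)).Nodup ∧ ∀ g : G, g ∈ (cond _ [pre] []).map (wden S) ↔ _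
    by_cases hc : Commute (wden S pre) (S.den x)
    · rw [key.2 hc]
      simp only [cond_true, List.map_cons, List.map_nil, List.nodup_singleton, List.mem_singleton,
        true_and]
      intro g
      constructor
      · rintro rfl; exact ⟨1, (hbot 1).2 rfl, (mul_one _).symm, hc⟩
      · rintro ⟨h, hh, rfl, -⟩; rw [(hbot h).1 hh, mul_one]
    · rw [Bool.eq_false_iff.2 fun e => hc (key.1 e)]
      simp only [cond_false, List.map_nil, List.nodup_nil, List.not_mem_nil, false_iff, true_and]
      rintro g ⟨h, hh, rfl, hcom⟩
      rw [(hbot h).1 hh, mul_one] at hcom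
      exact hc hcom
  | cons l t ih =>
    intro h hle pre done hpre hm hdone
    have F := checkChain_facts S h
    have hdone' : ∀ d ∈ l.base :: done, ∀ k ∈ S.grp t, S.act k d = d := by
      intro d hd k hk
      rcases List.mem_cons.1 hd with rfl | hd
      · exact F.next_fix k hk
      · exact hdone d hd k (F.next_le hk)
    have hsub : ∀ e ∈ l.orb, (∀ a ∈ pre ++ [e.u], S.ok a) ∧ wden S (pre ++ [e.u]) ∈ S.grp root ∧
        wden S (pre ++ [e.u]) = wden S pre * S.den e.u := by
      intro e he
      have hw : wden S (pre ++ [e.u]) = wden S pre * S.den e.u := by simp [wden]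
      refine ⟨fun a ha => ?_, ?_, hw⟩
      · rcases List.mem_append.1 ha with ha | ha
        · exact hpre a ha
        · rw [List.mem_singleton] at ha; exact ha ▸ (F.orb_ok e he).1
      · rw [hw]; exact Subgroup.mul_mem _ hm (hle (F.orb_mem e he))
    let f : Entry R → List (List R) := fun e =>
      cond (pairPrune o x (l.base :: done) (pre ++ [e.u]))
        (centEnum2 o (basesOf root) x t (pre ++ [e.u]) (l.base :: done)) []
    have hE : centEnum2 o (basesOf root) x (l :: t) pre done = l.orb.flatMap f := by
      rw [← lflat_eq]; rfl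
    have hmem : ∀ e ∈ l.orb, ∀ g : G, g ∈ (f e).map (wden S) ↔
        ∃ k ∈ S.grp t, g = wden S pre * (S.den e.u * k) ∧ Commute g (S.den x) := by
      intro e he g
      obtain ⟨h1, h2, h3⟩ := hsub e he
      have hrec := (ih (checkChain_tail h) (F.next_le.trans hle) _ _ h1 h2 hdone').2 g
      rw [h3] at hrec
      simp only [mul_assoc] at hrec
      cases hp : pairPrune o x (l.base :: done) (pre ++ [e.u]) with
      | true => simp only [f, hp, cond_true]; exact hrec
      | false =>
        simp only [f, hp, cond_false, List.map_nil, List.not_mem_nil, false_iff]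
        rintro ⟨k, hk, rfl, hcom⟩
        rw [Bool.eq_false_iff] at hp
        refine hp ((lall_iff _ _).2 fun b hb => ?_)
        cases hf : Option.isSome (lfind (l.base :: done) (fun c => Nat.beq c (o.img x b))) with
        | false => rfl
        | true =>
          obtain ⟨c, hc⟩ := Option.isSome_iff_exists.1 hf
          obtain ⟨hcm, hce⟩ := lfind_some hc
          have hxb : S.act (S.den x) b ∈ l.base :: done := by
            rw [← S.img_eq hx, ← Nat.eq_of_beq_eq_true hce]; exact hcm
          simp only [cond_true, Nat.beq_eq, imgW_eq S _ h1, S.img_eq hx]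
          have e1 := congrArg (fun z => S.act z b) hcom.eq
          simp only [S.act_mul, hdone' b hb k hk, hdone' _ hxb k hk] at e1
          rw [h3, S.act_mul, S.act_mul]
          exact e1.symm
    rw [hE, List.map_flatMap]
    refine ⟨List.nodup_flatMap.2 ⟨fun e he => ?_, ?_⟩, fun g => ?_⟩
    · obtain ⟨h1, h2, _⟩ := hsub e he
      cases hp : pairPrune o x (l.base :: done) (pre ++ [e.u])
      · simp [f, hp]
      · simp only [f, hp, cond_true]
        exact (ih (checkChain_tail h) (F.next_le.trans hle) _ _ h1 h2 hdone').1
    · refine List.Pairwise.imp_of_mem ?_ (List.Nodup.of_map _ F.nodup)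
      intro e e' he he' hne g hg hg'
      obtain ⟨k, hk, rfl, -⟩ := (hmem e he g).1 hg
      obtain ⟨k', hk', heq, -⟩ := (hmem e' he' _).1 hg'
      rw [mul_right_inj] at heq
      refine hne (List.inj_on_of_nodup_map F.nodup he he' ?_)
      have := congrArg (fun z => S.act z l.base) heq
      simpa [S.act_mul, F.next_fix k hk, F.next_fix k' hk', (F.orb_ok e he).2.2.2,
        (F.orb_ok e' he').2.2.2] using this
    · simp only [List.mem_flatMap]
      constructor
      · rintro ⟨e, he, hg⟩
        obtain ⟨k, hk, hgk, hcom⟩ := (hmem e he g).1 hg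
        exact ⟨S.den e.u * k, Subgroup.mul_mem _ (F.orb_mem e he) (F.next_le hk), hgk, hcom⟩
      · rintro ⟨k, hk, hgk, hcom⟩
        obtain ⟨e, he, j, hj, rfl⟩ := F.coset (checkChain_sound S (checkChain_tail h)) hk
        exact ⟨e, he, (hmem e he g).2 ⟨j, hj, hgk, hcom⟩⟩

/-- The centraliser order in the chain's group is `centCount2`. -/
theorem card_centralizer2 (S : Sound (G := G) o) {ls : List (Level R)}
    (hc : checkChain o ls = true) {x : R} (hx : S.ok x) (a : S.grp ls)
    (ha : (a : G) = S.den x) :
    Nat.card (Subgroup.centralizer ({a} : Set (S.grp ls))) = centCount2 o ls x := by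
  classical
  have h := centEnum2_spec S hc hx (ha ▸ a.2) hc le_rfl [] [] (by simp)
    (by rw [show wden S ([] : List R) = 1 from rfl]; exact Subgroup.one_mem _) (by simp)
  have hone : wden S ([] : List R) = 1 := rfl
  let L := (centEnum2 o (basesOf ls) x ls [] []).map (wden S)
  have e : Subgroup.centralizer ({a} : Set (S.grp ls)) ≃ {g // g ∈ L.toFinset} :=
    { toFun := fun z => ⟨((z : S.grp ls) : G), List.mem_toFinset.2 ((h.2 _).2
        ⟨_, (z : S.grp ls).2, by rw [hone, one_mul],
          ha ▸ congrArg Subtype.val (Subgroup.mem_centralizer_singleton_iff.1 z.2)⟩)⟩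
      invFun := fun z => ⟨⟨z.1, by
          obtain ⟨k, hk, hz, -⟩ := (h.2 _).1 (List.mem_toFinset.1 z.2)
          rw [hz, hone, one_mul]; exact hk⟩, Subgroup.mem_centralizer_singleton_iff.2 (Subtype.ext (by
          obtain ⟨k, hk, hz, hcom⟩ := (h.2 _).1 (List.mem_toFinset.1 z.2)
          show z.1 * (a : G) = (a : G) * z.1
          rw [ha]; exact hcom.eq))⟩
      left_inv := fun _ => rfl
      right_inv := fun _ => rfl }
  rw [Nat.card_congr e, Nat.card_eq_finsetCard, List.toFinset_card_of_nodup h.1, List.length_map]
  rfl

end Cfsg.Agent.Compute
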