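import Mathlib

/-!
Stabiliser-chain certificates checked by kernel computation (`decide +kernel`).

A certificate is a list of levels (base point, strong generators with inverses, orbit with a
transversal given as a Schreier tree).  `checkChain ops ls = true` implies that the subgroup
generated by the generators of the first level has order `order ls`, that `sift` decides
membership in it, and that the tail of the chain describes the stabiliser of the first base point.
All functions on the hot path use explicit recursors, which the kernel evaluates much faster.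
-/

set_option autoImplicit false

namespace Cfsg.Agent.Compute

/-- Raw operations on codes of group elements. -/
structure Ops (R : Type) where
  one : R
  mul : R → R → R
  eqv : R → R → Bool
  img : R → ℕ → ℕ
  okInv : R → R → Bool

/-- An orbit entry: `u` sends the base point to `pt`, `v` is its inverse,
`u = gens[gi] * orb[par].u` (for the first entry `u = 1`). -/
structure Entry (R : Type) where
  pt : ℕ
  u : R
  v : R
  gi : ℕ
  par : ℕ

/-- One level of a chain. -/
structure Level (R : Type) where
  base : ℕ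
  gens : List (R × R)
  orb : List (Entry R)

/-! ### Fast list functions -/

noncomputable def lall {α : Type} (l : List α) (f : α → Bool) : Bool :=
  List.rec true (fun a _ ih => f a && ih) l

noncomputable def lfind {α : Type} (l : List α) (f : α → Bool) : Option α :=
  List.rec none (fun a _ ih => cond (f a) (some a) ih) l

theorem lall_iff {α : Type} (l : List α) (f : α → Bool) :
    lall l f = true ↔ ∀ a ∈ l, f a = true := by
  induction l with
  | nil => simp [lall]
  | cons a t ih =>
    have h : lall (a :: t) f = (f a && lall t f) := rfl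
    simp [h, ih]

theorem lfind_some {α : Type} {l : List α} {f : α → Bool} {a : α}
    (h : lfind l f = some a) : a ∈ l ∧ f a = true := by
  induction l with
  | nil => simp [lfind] at h
  | cons b t ih =>
    have h' : lfind (b :: t) f = cond (f b) (some b) (lfind t f) := rfl
    cases hb : f b <;> rw [h', hb] at h <;> simp at h
    · exact ⟨List.mem_cons_of_mem _ (ih h).1, (ih h).2⟩
    · subst h; simp [hb]

theorem lfind_none {α : Type} {l : List α} {f : α → Bool}
    (h : lfind l f = none) {a : α} (ha : a ∈ l) : f a = false := by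
  induction l with
  | nil => simp at ha
  | cons b t ih =>
    have h' : lfind (b :: t) f = cond (f b) (some b) (lfind t f) := rfl
    cases hb : f b <;> rw [h', hb] at h <;> simp at h
    rcases List.mem_cons.1 ha with rfl | ha
    · exact hb
    · exact ih h ha

/-- Duplicate-freeness of a list of numbers, through a bit set. -/
noncomputable def distinct (l : List ℕ) : ℕ → Bool :=
  List.rec (fun _ => true)
    (fun p _ ih seen => cond (Nat.beq (Nat.land seen (Nat.shiftLeft 1 p)) 0)
      (ih (Nat.lor seen (Nat.shiftLeft 1 p))) false) l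

theorem distinct_sound : ∀ (l : List ℕ) (seen : ℕ), distinct l seen = true →
    l.Nodup ∧ ∀ p ∈ l, seen.testBit p = false := by
  intro l
  induction l with
  | nil => simp
  | cons p t ih =>
    intro seen h
    have h' : distinct (p :: t) seen =
      cond (Nat.beq (seen &&& (1 <<< p)) 0) (distinct t (seen ||| (1 <<< p))) false := rfl
    cases hb : Nat.beq (seen &&& (1 <<< p)) 0 <;> rw [h', hb] at h <;> simp at h
    have hz : seen &&& (1 <<< p) = 0 := Nat.eq_of_beq_eq_true hb
    have hp : seen.testBit p = false := by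
      have := congrArg (fun x => Nat.testBit x p) hz
      simpa [Nat.testBit_and, Nat.testBit_shiftLeft] using this
    obtain ⟨hn, hs⟩ := ih _ h
    refine ⟨List.nodup_cons.2 ⟨fun hm => ?_, hn⟩, fun q hq => ?_⟩
    · have := hs p hm
      simp [Nat.testBit_or, Nat.testBit_shiftLeft] at this
    · rcases List.mem_cons.1 hq with rfl | hq
      · exact hp
      · have := hs q hq
        simp only [Nat.testBit_or, Bool.or_eq_false_iff] at this
        exact this.1

/-! ### The checker -/

variable {R : Type}

noncomputable def sift (o : Ops R) (ls : List (Level R)) : R → Bool :=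
  List.rec (fun r => o.eqv r o.one)
    (fun l _ ih r =>
      Option.rec false (fun e => ih (o.mul e.v r))
        (lfind l.orb (fun e => Nat.beq e.pt (o.img r l.base)))) ls

noncomputable def nth {α : Type} (d : α) (l : List α) : ℕ → α :=
  List.rec (fun _ => d) (fun a _ ih i => Nat.rec a (fun j _ => ih j) i) l

/-- Check that the orbit is a Schreier tree; `pre` counts the entries already passed. -/
noncomputable def treeOK (o : Ops R) (gens : List (R × R)) (all : List (Entry R))
    (rest : List (Entry R)) : ℕ → Bool :=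
  List.rec (fun _ => true)
    (fun e _ ih pre =>
      cond (Nat.beq pre 0) (o.eqv e.u o.one)
        (Nat.ble (e.par + 1) pre && Nat.ble (e.gi + 1) gens.length &&
          o.eqv e.u (o.mul (nth (o.one, o.one) gens e.gi).1
            (nth ⟨0, o.one, o.one, 0, 0⟩ all e.par).u)) && ih (pre + 1)) rest

def nextGens (ls : List (Level R)) : List (R × R) :=
  List.rec [] (fun l _ _ => l.gens) ls

/-- Closure of the coset space under one generator. -/
noncomputable def genOK (o : Ops R) (l : Level R) (ls : List (Level R)) (g : R × R) : Bool :=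
  lall l.orb (fun e =>
    Option.rec false (fun e2 => sift o ls (o.mul e2.v (o.mul g.1 e.u)))
      (lfind l.orb (fun e2 => Nat.beq e2.pt (o.img g.1 e.pt))))

noncomputable def levelOK (o : Ops R) (l : Level R) (ls : List (Level R)) : Bool :=
  lall l.gens (fun g => o.okInv g.1 g.2) &&
  lall l.orb (fun e => o.okInv e.u e.v && Nat.beq (o.img e.u l.base) e.pt) &&
  (!l.orb.isEmpty) &&
  treeOK o l.gens l.orb l.orb 0 &&
  distinct (l.orb.map Entry.pt) 0 &&
  lall (nextGens ls) (fun g =>
    Nat.beq (o.img g.1 l.base) l.base &&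
      Option.isSome (lfind l.gens (fun g' => o.eqv g'.1 g.1))) &&
  lall l.gens (fun g => genOK o l ls g)

noncomputable def checkChain (o : Ops R) (ls : List (Level R)) : Bool :=
  List.rec true (fun l t ih => levelOK o l t && ih) ls

/-- The certified order. -/
def order (ls : List (Level R)) : ℕ :=
  List.rec 1 (fun l _ ih => l.orb.length * ih) ls

/-! ### Specification -/

/-- Meaning of the raw operations inside a group `G` with an action on `ℕ`. -/
structure Sound {G : Type*} [Group G] (o : Ops R) where
  den : R → G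
  ok : R → Prop
  act : G → ℕ → ℕ
  act_one : ∀ p, act 1 p = p
  act_mul : ∀ g h p, act (g * h) p = act g (act h p)
  ok_one : ok o.one
  den_one : den o.one = 1
  ok_mul : ∀ {a b}, ok a → ok b → ok (o.mul a b)
  den_mul : ∀ {a b}, ok a → ok b → den (o.mul a b) = den a * den b
  img_eq : ∀ {a}, ok a → ∀ p, o.img a p = act (den a) p
  eqv_iff : ∀ {a b}, ok a → ok b → (o.eqv a b = true ↔ den a = den b)
  okInv_sound : ∀ {a b}, o.okInv a b = true → ok a ∧ ok b ∧ den b = (den a)⁻¹

variable {G : Type*} [Group G] {o : Ops R}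

/-- The subgroup generated by the generators of the first level. -/
def Sound.grp (S : Sound (G := G) o) (ls : List (Level R)) : Subgroup G :=
  Subgroup.closure (S.den '' {a | ∃ g ∈ nextGens ls, g.1 = a})

theorem nth_mem {α : Type} (d : α) : ∀ (l : List α) (i : ℕ), i < l.length →
    nth d l i ∈ l := by
  intro l
  induction l with
  | nil => simp
  | cons a t ih =>
    intro i hi
    cases i with
    | zero => exact List.mem_cons_self
    | succ j => exact List.mem_cons_of_mem _ (ih j (by simpa using hi))

theorem nth_eq_getElem {α : Type} (d : α) : ∀ (l : List α) (i : ℕ) (h : i < l.length),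
    nth d l i = l[i] := by
  intro l
  induction l with
  | nil => simp
  | cons a t ih =>
    intro i hi
    cases i with
    | zero => rfl
    | succ j => exact ih j (by simpa using hi)

theorem treeOK_mem (S : Sound (G := G) o) (H : Subgroup G) (gens : List (R × R))
    (hg : ∀ g ∈ gens, S.ok g.1 ∧ S.den g.1 ∈ H)
    (all : List (Entry R)) (hok : ∀ e ∈ all, S.ok e.u) :
    ∀ (rest pre : List (Entry R)), all = pre ++ rest →
      treeOK o gens all rest pre.length = true →
      (∀ e ∈ pre, S.den e.u ∈ H) → ∀ e ∈ all, S.den e.u ∈ H := by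
  intro rest
  induction rest with
  | nil => intro pre h _ hp; simpa [h] using hp
  | cons e t ih =>
    intro pre h hc hp
    have hc' : ((cond (Nat.beq pre.length 0) (o.eqv e.u o.one)
        (Nat.ble (e.par + 1) pre.length && Nat.ble (e.gi + 1) gens.length &&
          o.eqv e.u (o.mul (nth (o.one, o.one) gens e.gi).1
            (nth ⟨0, o.one, o.one, 0, 0⟩ all e.par).u))) &&
        treeOK o gens all t (pre.length + 1)) = true := hc
    rw [Bool.and_eq_true] at hc'
    have heu : S.ok e.u := hok e (by simp [h])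
    have he : S.den e.u ∈ H := by
      have h1 := hc'.1
      cases hb : Nat.beq pre.length 0 <;> rw [hb] at h1
      · simp only [cond_false, Bool.and_eq_true, Nat.ble_eq] at h1
        have hgm := hg _ (nth_mem (o.one, o.one) gens e.gi h1.1.2)
        have hlt : e.par < all.length := by simp [h]; omega
        have hpm : nth (⟨0, o.one, o.one, 0, 0⟩ : Entry R) all e.par ∈ pre := by
          rw [nth_eq_getElem _ _ _ hlt]
          have : all[e.par] = pre[e.par]'(by omega) := by
            simp [h, List.getElem_append_left (show e.par < pre.length by omega)]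
          rw [this]; exact List.getElem_mem _
        have hpa : S.ok (nth (⟨0, o.one, o.one, 0, 0⟩ : Entry R) all e.par).u :=
          hok _ (by simpa [h] using List.mem_append_left (e :: t) hpm)
        rw [(S.eqv_iff heu (S.ok_mul hgm.1 hpa)).1 h1.2, S.den_mul hgm.1 hpa]
        exact H.mul_mem hgm.2 (hp _ hpm)
      · rw [(S.eqv_iff heu S.ok_one).1 h1, S.den_one]
        exact H.one_mem
    refine ih (pre ++ [e]) (by simp [h]) (by simpa using hc'.2) ?_
    intro x hx
    rcases List.mem_append.1 hx with hx | hx
    · exact hp x hx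
    · simp at hx; exact hx ▸ he

/-- The group generated fixes `p` if all generators do. -/
theorem grp_fix (S : Sound (G := G) o) (ls : List (Level R)) (p : ℕ)
    (h : ∀ g ∈ nextGens ls, S.ok g.1 ∧ o.img g.1 p = p) :
    ∀ x ∈ S.grp ls, S.act x p = p := by
  intro x hx
  refine Subgroup.closure_induction ?_ (S.act_one p) ?_ ?_ hx
  · rintro _ ⟨a, ⟨g, hg, rfl⟩, rfl⟩
    rw [← S.img_eq (h g hg).1]; exact (h g hg).2
  · intro a b _ _ ha hb; rw [S.act_mul, hb, ha]
  · intro a _ ha
    calc S.act a⁻¹ p = S.act a⁻¹ (S.act a p) := by rw [ha]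
      _ = p := by rw [← S.act_mul, inv_mul_cancel, S.act_one]

/-- What a successful check means. -/
structure Meaning (S : Sound (G := G) o) (ls : List (Level R)) : Prop where
  card : Nat.card (S.grp ls) = order ls
  sift_iff : ∀ r, S.ok r → (sift o ls r = true ↔ S.den r ∈ S.grp ls)
  gens_ok : ∀ g ∈ nextGens ls, S.ok g.1
  pos : 0 < order ls

theorem gens_mem (S : Sound (G := G) o) (ls : List (Level R)) {g : R × R}
    (hg : g ∈ nextGens ls) : S.den g.1 ∈ S.grp ls :=
  Subgroup.subset_closure ⟨g.1, ⟨g, hg, rfl⟩, rfl⟩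

/-- Facts about one level. -/
structure LevelFacts (S : Sound (G := G) o) (l : Level R) (ls : List (Level R)) : Prop where
  gens_ok : ∀ g ∈ l.gens, S.ok g.1
  orb_ok : ∀ e ∈ l.orb, S.ok e.u ∧ S.ok e.v ∧ S.den e.v = (S.den e.u)⁻¹ ∧
    S.act (S.den e.u) l.base = e.pt
  nonempty : l.orb ≠ []
  orb_mem : ∀ e ∈ l.orb, S.den e.u ∈ S.grp (l :: ls)
  nodup : (l.orb.map Entry.pt).Nodup
  one_entry : ∃ e ∈ l.orb, e.pt = l.base ∧ S.den e.u = 1
  next_le : S.grp ls ≤ S.grp (l :: ls)
  next_fix : ∀ x ∈ S.grp ls, S.act x l.base = l.base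
  closed : ∀ g ∈ l.gens, ∀ e ∈ l.orb, ∃ e2 ∈ l.orb,
    sift o ls (o.mul e2.v (o.mul g.1 e.u)) = true

theorem levelFacts (S : Sound (G := G) o) {l : Level R} {ls : List (Level R)}
    (h : levelOK o l ls = true) (hls : ∀ g ∈ nextGens ls, S.ok g.1) : LevelFacts S l ls := by
  simp only [levelOK, Bool.and_eq_true, lall_iff, Bool.not_eq_true'] at h
  obtain ⟨⟨⟨⟨⟨⟨hg, ho⟩, hne⟩, htree⟩, hd⟩, hn⟩, hc⟩ := h
  have hgo : ∀ g ∈ l.gens, S.ok g.1 := fun g hh => (S.okInv_sound (hg g hh)).1
  have hoo : ∀ e ∈ l.orb, S.ok e.u ∧ S.ok e.v ∧ S.den e.v = (S.den e.u)⁻¹ ∧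
      S.act (S.den e.u) l.base = e.pt := by
    intro e he
    obtain ⟨a, b, c⟩ := S.okInv_sound (ho e he).1
    exact ⟨a, b, c, by rw [← S.img_eq a]; exact Nat.eq_of_beq_eq_true (ho e he).2⟩
  have hne' : l.orb ≠ [] := by intro e; rw [e] at hne; simp at hne
  have hmem := treeOK_mem S (S.grp (l :: ls)) l.gens
    (fun g hh => ⟨hgo g hh, gens_mem S (l :: ls) hh⟩) l.orb (fun e he => (hoo e he).1)
    l.orb [] rfl htree (by simp)
  have hn' : ∀ g ∈ nextGens ls, o.img g.1 l.base = l.base ∧ ∃ g' ∈ l.gens,
      o.eqv g'.1 g.1 = true := by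
    intro g hh
    refine ⟨Nat.eq_of_beq_eq_true (hn g hh).1, ?_⟩
    obtain ⟨g', hg'⟩ := Option.isSome_iff_exists.1 (hn g hh).2
    exact ⟨g', lfind_some hg'⟩
  refine ⟨hgo, hoo, hne', hmem, (distinct_sound _ _ hd).1, ?_, ?_, ?_, ?_⟩
  · obtain ⟨e, t, het⟩ := List.exists_cons_of_ne_nil hne'
    have he : e ∈ l.orb := by simp [het]
    rw [het] at htree
    have htree' : (o.eqv e.u o.one && treeOK o l.gens (e :: t) t 1) = true := htree
    rw [Bool.and_eq_true] at htree'
    have h1 : S.den e.u = 1 := by
      rw [(S.eqv_iff (hoo e he).1 S.ok_one).1 htree'.1, S.den_one]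
    exact ⟨e, he, by rw [← (hoo e he).2.2.2, h1, S.act_one], h1⟩
  · refine (Subgroup.closure_le _).2 ?_
    rintro _ ⟨a, ⟨g, hh, rfl⟩, rfl⟩
    obtain ⟨g', hg', he⟩ := (hn' g hh).2
    rw [← (S.eqv_iff (hgo g' hg') (hls g hh)).1 he]
    exact gens_mem S (l :: ls) hg'
  · exact grp_fix S ls l.base (fun g hh => ⟨hls g hh, (hn' g hh).1⟩)
  · intro g hh e he
    have := hc g hh
    simp only [genOK, lall_iff] at this
    have := this e he
    cases hf : lfind l.orb (fun e2 => Nat.beq e2.pt (o.img g.1 e.pt)) with
    | none => rw [hf] at this; simp at this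
    | some e2 => rw [hf] at this; exact ⟨e2, (lfind_some hf).1, this⟩

theorem LevelFacts.coset {S : Sound (G := G) o} {l : Level R} {ls : List (Level R)}
    (F : LevelFacts S l ls) (M : Meaning S ls) {g : G} (hg : g ∈ S.grp (l :: ls)) :
    ∃ e ∈ l.orb, ∃ h ∈ S.grp ls, g = S.den e.u * h := by
  let T : Set G := ⋃ i : Fin l.orb.length, (fun h : G => S.den (l.orb[i]).u * h) '' (S.grp ls : Set G)
  have hT : ∀ x, x ∈ T ↔ ∃ e ∈ l.orb, ∃ h ∈ S.grp ls, x = S.den e.u * h := by
    intro x
    simp only [T, Set.mem_iUnion, Set.mem_image, SetLike.mem_coe]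
    constructor
    · rintro ⟨i, h, hh, rfl⟩; exact ⟨_, List.getElem_mem _, h, hh, rfl⟩
    · rintro ⟨e, he, h, hh, rfl⟩
      obtain ⟨i, hi, rfl⟩ := List.getElem_of_mem he
      exact ⟨⟨i, hi⟩, h, hh, rfl⟩
  have hfin : Finite (S.grp ls) := Nat.finite_of_card_ne_zero (by rw [M.card]; exact M.pos.ne')
  have hTfin : T.Finite :=
    Set.finite_iUnion fun i => (Set.toFinite (S.grp ls : Set G)).image _
  have hcl : ∀ s ∈ S.den '' {a | ∃ x ∈ l.gens, x.1 = a}, ∀ x ∈ T, s * x ∈ T := by
    rintro _ ⟨a, ⟨gg, hgg, rfl⟩, rfl⟩ x hx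
    obtain ⟨e, he, h, hh, rfl⟩ := (hT _).1 hx
    obtain ⟨e2, he2, hs⟩ := F.closed gg hgg e he
    obtain ⟨ou, ov, hv, _⟩ := F.orb_ok e2 he2
    have oe := (F.orb_ok e he).1
    have og := F.gens_ok gg hgg
    have hr := (M.sift_iff _ (S.ok_mul ov (S.ok_mul og oe))).1 hs
    rw [S.den_mul ov (S.ok_mul og oe), S.den_mul og oe, hv] at hr
    exact (hT _).2 ⟨e2, he2, _, Subgroup.mul_mem _ hr hh, by group⟩
  have h1 : ∀ x ∈ T, g * x ∈ T := by
    refine Subgroup.closure_induction
      (p := fun y _ => ∀ x ∈ T, y * x ∈ T) (fun s hs => hcl s hs) (by simp) ?_ ?_ hg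
    · intro a b _ _ ha hb x hx; rw [mul_assoc]; exact ha _ (hb x hx)
    · intro a _ ha x hx
      have himg : (fun y => a * y) '' T = T :=
        Set.eq_of_subset_of_ncard_le (by rintro _ ⟨y, hy, rfl⟩; exact ha y hy)
          (Set.ncard_image_of_injective T (mul_right_injective a)).ge hTfin
      rw [← himg] at hx
      obtain ⟨y, hy, rfl⟩ := hx
      simpa using hy
  obtain ⟨e0, he0, _, h1e⟩ := F.one_entry
  have h0 : (1 : G) ∈ T := (hT _).2 ⟨e0, he0, 1, Subgroup.one_mem _, by rw [h1e, one_mul]⟩
  exact (hT g).1 (by simpa using h1 1 h0)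

theorem LevelFacts.meaning {S : Sound (G := G) o} {l : Level R} {ls : List (Level R)}
    (F : LevelFacts S l ls) (M : Meaning S ls) : Meaning S (l :: ls) := by
  have hinj : ∀ e ∈ l.orb, ∀ e' ∈ l.orb, e.pt = e'.pt → e = e' :=
    fun e he e' he' h => List.inj_on_of_nodup_map F.nodup he he' h
  have hpt : ∀ e ∈ l.orb, ∀ h ∈ S.grp ls, S.act (S.den e.u * h) l.base = e.pt := by
    intro e he h hh; rw [S.act_mul, F.next_fix h hh, (F.orb_ok e he).2.2.2]
  have hnd : l.orb.Nodup := List.Nodup.of_map _ F.nodup
  constructor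
  · show Nat.card (S.grp (l :: ls)) = l.orb.length * order ls
    rw [← M.card, ← Nat.card_fin l.orb.length, ← Nat.card_prod]
    refine (Nat.card_eq_of_bijective (fun x : Fin l.orb.length × S.grp ls =>
      (⟨S.den (l.orb[x.1]).u * x.2.1, Subgroup.mul_mem _
        (F.orb_mem _ (List.getElem_mem _)) (F.next_le x.2.2)⟩ : S.grp (l :: ls))) ⟨?_, ?_⟩).symm
    · rintro ⟨i, h⟩ ⟨j, k⟩ hh
      have hv := congrArg Subtype.val hh
      simp only [Fin.getElem_fin] at hv
      have hp := congrArg (fun g => S.act g l.base) hv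
      simp only [hpt _ (List.getElem_mem _) _ h.2, hpt _ (List.getElem_mem _) _ k.2] at hp
      have hij : i = j := Fin.ext ((List.Nodup.getElem_inj_iff hnd).1
        (hinj _ (List.getElem_mem _) _ (List.getElem_mem _) hp))
      subst hij
      simp only [mul_right_inj] at hv
      simp [Subtype.ext hv]
    · rintro ⟨g, hg⟩
      obtain ⟨e, he, h, hh, rfl⟩ := F.coset M hg
      obtain ⟨i, hi, rfl⟩ := List.getElem_of_mem he
      exact ⟨(⟨i, hi⟩, ⟨h, hh⟩), rfl⟩
  · intro r hr
    have hs : sift o (l :: ls) r = Option.rec false (fun e => sift o ls (o.mul e.v r))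
        (lfind l.orb (fun e => Nat.beq e.pt (o.img r l.base))) := rfl
    rw [hs]
    cases hf : lfind l.orb (fun e => Nat.beq e.pt (o.img r l.base)) with
    | none =>
      simp only [Bool.false_eq_true, false_iff]
      intro hm
      obtain ⟨e, he, h, hh, heq⟩ := F.coset M hm
      have := lfind_none hf he
      rw [S.img_eq hr, heq, hpt e he h hh] at this
      simp at this
    | some e =>
      obtain ⟨he, hb⟩ := lfind_some hf
      obtain ⟨ou, ov, hv, _⟩ := F.orb_ok e he
      show sift o ls (o.mul e.v r) = true ↔ _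
      rw [M.sift_iff _ (S.ok_mul ov hr), S.den_mul ov hr, hv]
      constructor
      · intro h
        have := Subgroup.mul_mem _ (F.orb_mem e he) (F.next_le h)
        simpa using this
      · intro hm
        obtain ⟨e', he', h, hh, heq⟩ := F.coset M hm
        have hp : e.pt = e'.pt := by
          rw [Nat.eq_of_beq_eq_true hb, S.img_eq hr, heq, hpt e' he' h hh]
        rw [hinj e he e' he' hp, heq]
        simpa using hh
  · exact F.gens_ok
  · show 0 < l.orb.length * order ls
    exact Nat.mul_pos (List.length_pos_iff.2 F.nonempty) M.pos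

/-- Main theorem: a successful check certifies order and membership. -/
theorem checkChain_sound (S : Sound (G := G) o) :
    ∀ {ls : List (Level R)}, checkChain o ls = true → Meaning S ls := by
  intro ls
  induction ls with
  | nil =>
    intro _
    have hb : S.grp ([] : List (Level R)) = ⊥ := by simp [Sound.grp, nextGens]
    refine ⟨?_, ?_, by simp [nextGens], by simp [order]⟩
    · rw [hb]; simp [order]
    · intro r hr
      rw [hb, Subgroup.mem_bot, ← S.den_one]
      exact S.eqv_iff hr S.ok_one
  | cons l t ih =>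
    intro h
    have h' : (levelOK o l t && checkChain o t) = true := h
    rw [Bool.and_eq_true] at h'
    exact (levelFacts S h'.1 (ih h'.2).gens_ok).meaning (ih h'.2)

theorem checkChain_facts (S : Sound (G := G) o) {l : Level R} {ls : List (Level R)}
    (h : checkChain o (l :: ls) = true) : LevelFacts S l ls := by
  have h' : (levelOK o l ls && checkChain o ls) = true := h
  rw [Bool.and_eq_true] at h'
  exact levelFacts S h'.1 (checkChain_sound S h'.2).gens_ok

theorem checkChain_tail {o : Ops R} {l : Level R} {ls : List (Level R)}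
    (h : checkChain o (l :: ls) = true) : checkChain o ls = true := by
  have h' : (levelOK o l ls && checkChain o ls) = true := h
  rw [Bool.and_eq_true] at h'
  exact h'.2

/-- The stabiliser of the first base point is the group of the tail. -/
theorem mem_tail_iff (S : Sound (G := G) o) {l : Level R} {ls : List (Level R)}
    (h : checkChain o (l :: ls) = true) (g : G) :
    g ∈ S.grp ls ↔ g ∈ S.grp (l :: ls) ∧ S.act g l.base = l.base := by
  have F := checkChain_facts S h
  have M := checkChain_sound S (checkChain_tail h)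
  refine ⟨fun hg => ⟨F.next_le hg, F.next_fix g hg⟩, fun ⟨hg, hf⟩ => ?_⟩
  obtain ⟨e, he, k, hk, rfl⟩ := F.coset M hg
  obtain ⟨e1, he1, hp1, h1⟩ := F.one_entry
  rw [S.act_mul, F.next_fix k hk, (F.orb_ok e he).2.2.2] at hf
  have hee : e = e1 := List.inj_on_of_nodup_map F.nodup he he1 (hf.trans hp1.symm)
  rw [hee, h1, one_mul]; exact hk

/-- The orbit of the first base point is exactly the listed one. -/
theorem orbit_iff (S : Sound (G := G) o) {l : Level R} {ls : List (Level R)}
    (h : checkChain o (l :: ls) = true) (p : ℕ) :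
    (∃ g ∈ S.grp (l :: ls), S.act g l.base = p) ↔ p ∈ l.orb.map Entry.pt := by
  have F := checkChain_facts S h
  have M := checkChain_sound S (checkChain_tail h)
  constructor
  · rintro ⟨g, hg, rfl⟩
    obtain ⟨e, he, k, hk, rfl⟩ := F.coset M hg
    rw [S.act_mul, F.next_fix k hk, (F.orb_ok e he).2.2.2]
    exact List.mem_map.2 ⟨e, he, rfl⟩
  · intro hp
    obtain ⟨e, he, rfl⟩ := List.mem_map.1 hp
    exact ⟨_, F.orb_mem e he, (F.orb_ok e he).2.2.2⟩

end Cfsg.Agent.Compute
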