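import Cfsg.Agent.Compute.PermRep

/-!
Splitting a large Boolean check into pieces that the kernel verifies one declaration at a time,
so that its caches stay small.
-/

set_option autoImplicit false

namespace Cfsg.Agent.Compute

/-- Piece `k` (of size `n`) of a check over a list. -/
noncomputable def chunkL {α : Type} (l : List α) (f : α → Bool) (n k : ℕ) : Bool :=
  lall ((l.drop (k * n)).take n) f

/-- Piece `k` (of size `n`) of a check over `i < m`. -/
noncomputable def chunkN (m : ℕ) (f : ℕ → Bool) (n k : ℕ) : Bool :=
  allN n (fun i => cond (Nat.ble (k * n + i + 1) m) (f (k * n + i)) true)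

theorem lall_of_chunks {α : Type} {l : List α} {f : α → Bool} (n c : ℕ)
    (hl : Nat.ble l.length (c * n) = true) (h : ∀ k < c, chunkL l f n k = true) :
    lall l f = true := by
  rw [lall_iff]
  intro a ha
  obtain ⟨i, hi, rfl⟩ := List.getElem_of_mem ha
  have hlen : l.length ≤ c * n := Nat.ble_eq.mp hl
  have hn : 0 < n := by
    rcases Nat.eq_zero_or_pos n with h0 | h0
    · subst h0; omega
    · exact h0
  have hk : i / n < c := (Nat.div_lt_iff_lt_mul hn).2 (by omega)
  have hm := (lall_iff _ _).1 (h _ hk)
  apply hm
  rw [List.mem_take_iff_getElem]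
  refine ⟨i % n, ?_, ?_⟩
  · have := Nat.mod_lt i hn
    have := Nat.div_add_mod' i n
    simp only [List.length_drop]
    omega
  · simp only [List.getElem_drop, Nat.div_add_mod']

theorem allN_of_chunks {m : ℕ} {f : ℕ → Bool} (n c : ℕ)
    (hl : Nat.ble m (c * n) = true) (h : ∀ k < c, chunkN m f n k = true) :
    allN m f = true := by
  rw [allN_iff]
  intro i hi
  have hlen : m ≤ c * n := Nat.ble_eq.mp hl
  have hn : 0 < n := by
    rcases Nat.eq_zero_or_pos n with h0 | h0
    · subst h0; omega
    · exact h0
  have hk : i / n < c := (Nat.div_lt_iff_lt_mul hn).2 (by omega)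
  have hc := (allN_iff _ _).1 (h _ hk) (i % n) (Nat.mod_lt i hn)
  simp only [Nat.div_add_mod'] at hc
  rwa [show Nat.ble (i + 1) m = true from Nat.ble_eq.mpr hi] at hc

/-- Everything in the check of a level except closure under the generators. -/
noncomputable def levelBase {R : Type} (o : Ops R) (l : Level R) (ls : List (Level R)) : Bool :=
  lall l.gens (fun g => o.okInv g.1 g.2) &&
  lall l.orb (fun e => o.okInv e.u e.v && Nat.beq (o.img e.u l.base) e.pt) &&
  (!l.orb.isEmpty) &&
  treeOK o l.gens l.orb l.orb 0 &&
  distinct (l.orb.map Entry.pt) 0 &&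
  lall (nextGens ls) (fun g =>
    Nat.beq (o.img g.1 l.base) l.base &&
      Option.isSome (lfind l.gens (fun g' => o.eqv g'.1 g.1)))

theorem levelOK_of_parts {R : Type} {o : Ops R} {l : Level R} {ls : List (Level R)}
    (h1 : levelBase o l ls = true) (h2 : lall l.gens (fun g => genOK o l ls g) = true) :
    levelOK o l ls = true := by
  simp only [levelBase, Bool.and_eq_true] at h1
  simp only [levelOK, Bool.and_eq_true]
  exact ⟨h1, h2⟩

end Cfsg.Agent.Compute
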