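import Cfsg.Agent.Compute.Search

/-!
Centralisers and conjugacy classes from a stabiliser chain, computing with point images only:
elements of the chain's group are determined by the images of the base points.
-/

set_option autoImplicit false

namespace Cfsg.Agent.Compute

variable {R : Type} {G : Type*} [Group G] {o : Ops R}

/-- The base of a chain. -/
noncomputable def basesOf (ls : List (Level R)) : List ℕ :=
  List.rec [] (fun l _ ih => l.base :: ih) ls

noncomputable def imgW (o : Ops R) (ws : List R) (p : ℕ) : ℕ :=
  List.rec p (fun a _ ih => o.img a ih) ws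

noncomputable def lflat {α β : Type} (l : List α) (f : α → List β) : List β :=
  List.rec [] (fun a _ ih => f a ++ ih) l

theorem lflat_eq {α β : Type} (l : List α) (f : α → List β) : lflat l f = l.flatMap f := by
  induction l with
  | nil => rfl
  | cons a t ih => rw [List.flatMap_cons, ← ih]; rfl

/-- Products of `pre` with transversal elements that commute with `x` on all of `bs`. -/
noncomputable def centEnum (o : Ops R) (bs : List ℕ) (x : R) (ls : List (Level R)) :
    List R → List (List R) :=
  List.rec
    (fun pre => cond (lall bs (fun b =>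
      Nat.beq (imgW o pre (o.img x b)) (o.img x (imgW o pre b)))) [pre] [])
    (fun l _ ih pre => lflat l.orb (fun e =>
      cond (cond (Nat.beq (o.img x l.base) l.base)
        (Nat.beq (o.img x (imgW o pre e.pt)) (imgW o pre e.pt)) true) (ih (pre ++ [e.u])) [])) ls

/-- The number of elements of the chain's group commuting with `x`. -/
noncomputable def centCount (o : Ops R) (ls : List (Level R)) (x : R) : ℕ :=
  (centEnum o (basesOf ls) x ls []).length

/-- Meaning of a word. -/
def wden (S : Sound (G := G) o) (ws : List R) : G :=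
  (ws.map S.den).prod

theorem imgW_eq (S : Sound (G := G) o) : ∀ (ws : List R), (∀ a ∈ ws, S.ok a) → ∀ p,
    imgW o ws p = S.act (wden S ws) p := by
  intro ws
  induction ws with
  | nil => intro _ p; rw [show wden S ([] : List R) = 1 from rfl, S.act_one]; rfl
  | cons a t ih =>
    intro h p
    rw [show imgW o (a :: t) p = o.img a (imgW o t p) from rfl,
      ih (fun b hb => h b (List.mem_cons_of_mem _ hb)), S.img_eq (h a List.mem_cons_self),
      ← S.act_mul]
    simp [wden]

theorem wden_append (S : Sound (G := G) o) (v w : List R) :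
    wden S (v ++ w) = wden S v * wden S w := by
  simp [wden]

/-- An element of the chain's group fixing every base point is trivial. -/
theorem eq_one_of_fix_bases (S : Sound (G := G) o) :
    ∀ {ls : List (Level R)}, checkChain o ls = true → ∀ g ∈ S.grp ls,
      (∀ b ∈ basesOf ls, S.act g b = b) → g = 1 := by
  intro ls
  induction ls with
  | nil => intro _ g hg _; simpa [Sound.grp, nextGens] using hg
  | cons l t ih =>
    intro h g hg hb
    refine ih (checkChain_tail h) g ?_ fun b hb' => hb b (List.mem_cons_of_mem _ hb')
    exact (mem_tail_iff S h g).2 ⟨hg, hb _ List.mem_cons_self⟩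

/-- Elements of the chain's group agreeing on the base are equal. -/
theorem eq_of_bases (S : Sound (G := G) o) {ls : List (Level R)} (h : checkChain o ls = true)
    {g k : G} (hg : g ∈ S.grp ls) (hk : k ∈ S.grp ls)
    (hb : ∀ b ∈ basesOf ls, S.act g b = S.act k b) : g = k := by
  have := eq_one_of_fix_bases S h (k⁻¹ * g) (Subgroup.mul_mem _ (Subgroup.inv_mem _ hk) hg)
    fun b hb' => by rw [S.act_mul, hb b hb', ← S.act_mul, inv_mul_cancel, S.act_one]
  exact (inv_mul_eq_one.1 this).symm

theorem centEnum_spec (S : Sound (G := G) o) {root : List (Level R)}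
    (hroot : checkChain o root = true) {x : R} (hx : S.ok x) (hxm : S.den x ∈ S.grp root) :
    ∀ {ls : List (Level R)}, checkChain o ls = true → S.grp ls ≤ S.grp root →
      ∀ pre, (∀ a ∈ pre, S.ok a) → wden S pre ∈ S.grp root →
      ((centEnum o (basesOf root) x ls pre).map (wden S)).Nodup ∧
      ∀ g : G, g ∈ (centEnum o (basesOf root) x ls pre).map (wden S) ↔
        ∃ h ∈ S.grp ls, g = wden S pre * h ∧ Commute g (S.den x) := by
  intro ls
  induction ls with
  | nil =>
    intro _ _ pre hpre hm
    have key : lall (basesOf root) (fun b => Nat.beq (imgW o pre (o.img x b))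
        (o.img x (imgW o pre b))) = true ↔ Commute (wden S pre) (S.den x) := by
      rw [lall_iff]
      constructor
      · intro h
        refine eq_of_bases S hroot (Subgroup.mul_mem _ hm hxm) (Subgroup.mul_mem _ hxm hm) ?_
        intro b hb
        have := Nat.eq_of_beq_eq_true (h b hb)
        rwa [imgW_eq S pre hpre, imgW_eq S pre hpre, S.img_eq hx, S.img_eq hx, ← S.act_mul,
          ← S.act_mul] at this
      · intro h b _
        rw [imgW_eq S pre hpre, imgW_eq S pre hpre, S.img_eq hx, S.img_eq hx, ← S.act_mul,
          ← S.act_mul, h.eq]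
        exact Nat.beq_refl _
    have hbot : ∀ h : G, h ∈ S.grp ([] : List (Level R)) ↔ h = 1 := fun h => by
      simp [Sound.grp, nextGens]
    show ((cond _ [pre] []).map (wden S)).Nodup ∧ ∀ g : G, g ∈ (cond _ [pre] []).map (wden S) ↔ _
    by_cases hc : Commute (wden S pre) (S.den x)
    · rw [key.2 hc]
      simp only [cond_true, List.map_cons, List.map_nil, List.nodup_singleton, List.mem_singleton,
        true_and]
      intro g
      constructor
      · rintro rfl; exact ⟨1, (hbot 1).2 rfl, (mul_one _).symm, hc⟩
      · rintro ⟨h, hh, rfl, -⟩; rw [(hbot h).1 hh, mul_one]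
    · rw [Bool.eq_false_iff.2 fun e => hc (key.1 e)]
      simp only [cond_false, List.map_nil, List.nodup_nil, List.not_mem_nil, false_iff, true_and]
      rintro g ⟨h, hh, rfl, hcom⟩
      rw [(hbot h).1 hh, mul_one] at hcom
      exact hc hcom
  | cons l t ih =>
    intro h hle pre hpre hm
    have F := checkChain_facts S h
    have M := checkChain_sound S (checkChain_tail h)
    have hsub : ∀ e ∈ l.orb, (∀ a ∈ pre ++ [e.u], S.ok a) ∧ wden S (pre ++ [e.u]) ∈ S.grp root ∧
        wden S (pre ++ [e.u]) = wden S pre * S.den e.u := by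
      intro e he
      have hw : wden S (pre ++ [e.u]) = wden S pre * S.den e.u := by simp [wden]
      refine ⟨fun a ha => ?_, ?_, hw⟩
      · rcases List.mem_append.1 ha with ha | ha
        · exact hpre a ha
        · rw [List.mem_singleton] at ha; exact ha ▸ (F.orb_ok e he).1
      · rw [hw]; exact Subgroup.mul_mem _ hm (hle (F.orb_mem e he))
    let P : Entry R → Bool := fun e => cond (Nat.beq (o.img x l.base) l.base)
      (Nat.beq (o.img x (imgW o pre e.pt)) (imgW o pre e.pt)) true
    let f : Entry R → List (List R) := fun e =>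
      cond (P e) (centEnum o (basesOf root) x t (pre ++ [e.u])) []
    have hE : centEnum o (basesOf root) x (l :: t) pre = l.orb.flatMap f := by
      rw [← lflat_eq]; rfl
    have hmem : ∀ e ∈ l.orb, ∀ g : G, g ∈ (f e).map (wden S) ↔
        ∃ k ∈ S.grp t, g = wden S pre * (S.den e.u * k) ∧ Commute g (S.den x) := by
      intro e he g
      obtain ⟨h1, h2, h3⟩ := hsub e he
      have hrec := (ih (checkChain_tail h) (F.next_le.trans hle) _ h1 h2).2 g
      simp only [h3, mul_assoc] at hrec
      by_cases hp : P e = true
      · simp only [f, hp, cond_true]; exact hrec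
      · rw [Bool.not_eq_true] at hp
        simp only [f, hp, cond_false, List.map_nil, List.not_mem_nil, false_iff]
        rintro ⟨k, hk, rfl, hcom⟩
        have hxb : o.img x l.base = l.base := by
          by_contra hne
          have : Nat.beq (o.img x l.base) l.base = false := by
            rw [Bool.eq_false_iff]; exact fun e => hne (Nat.eq_of_beq_eq_true e)
          simp [P, this] at hp
        have hb : Nat.beq (o.img x l.base) l.base = true := by rw [hxb]; exact Nat.beq_refl _
        have hne : o.img x (imgW o pre e.pt) ≠ imgW o pre e.pt := fun e' => by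
          simp [P, hb, e', Nat.beq_refl] at hp
        refine hne ?_
        have hpt : S.act (wden S pre * (S.den e.u * k)) l.base = imgW o pre e.pt := by
          rw [imgW_eq S pre hpre, S.act_mul, S.act_mul, F.next_fix k hk, (F.orb_ok e he).2.2.2]
        rw [← hpt, S.img_eq hx, ← S.act_mul, ← hcom.eq, S.act_mul, ← S.img_eq hx, hxb]
    rw [hE, List.map_flatMap]
    refine ⟨List.nodup_flatMap.2 ⟨fun e he => ?_, ?_⟩, fun g => ?_⟩
    · obtain ⟨h1, h2, _⟩ := hsub e he
      cases hp : P e
      · simp [f, hp]
      · simp only [f, hp, cond_true]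
        exact (ih (checkChain_tail h) (F.next_le.trans hle) _ h1 h2).1
    · refine List.Pairwise.imp_of_mem ?_ (List.Nodup.of_map _ F.nodup)
      intro e e' he he' hne g hg hg'
      obtain ⟨k, hk, rfl, -⟩ := (hmem e he g).1 hg
      obtain ⟨k', hk', heq, -⟩ := (hmem e' he' _).1 hg'
      rw [mul_right_inj] at heq
      refine hne (List.inj_on_of_nodup_map F.nodup he he' ?_)
      have := congrArg (fun z => S.act z l.base) heq
      simpa [S.act_mul, F.next_fix k hk, F.next_fix k' hk', (F.orb_ok e he).2.2.2,
        (F.orb_ok e' he').2.2.2] using this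
    · simp only [List.mem_flatMap]
      constructor
      · rintro ⟨e, he, hg⟩
        obtain ⟨k, hk, hgk, hcom⟩ := (hmem e he g).1 hg
        exact ⟨S.den e.u * k, Subgroup.mul_mem _ (F.orb_mem e he) (F.next_le hk), hgk, hcom⟩
      · rintro ⟨k, hk, hgk, hcom⟩
        obtain ⟨e, he, j, hj, rfl⟩ := F.coset M hk
        exact ⟨e, he, (hmem e he g).2 ⟨j, hj, hgk, hcom⟩⟩

/-- The centraliser order in the chain's group is `centCount`. -/
theorem card_centralizer (S : Sound (G := G) o) {ls : List (Level R)}
    (hc : checkChain o ls = true) {x : R} (hx : S.ok x) (a : S.grp ls)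
    (ha : (a : G) = S.den x) :
    Nat.card (Subgroup.centralizer ({a} : Set (S.grp ls))) = centCount o ls x := by
  classical
  have h := centEnum_spec S hc hx (ha ▸ a.2) hc le_rfl [] (by simp)
    (by rw [show wden S ([] : List R) = 1 from rfl]; exact Subgroup.one_mem _)
  have hone : wden S ([] : List R) = 1 := rfl
  let L := (centEnum o (basesOf ls) x ls []).map (wden S)
  have e : Subgroup.centralizer ({a} : Set (S.grp ls)) ≃ {g // g ∈ L.toFinset} :=
    { toFun := fun z => ⟨((z : S.grp ls) : G), List.mem_toFinset.2 ((h.2 _).2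
        ⟨_, (z : S.grp ls).2, by rw [hone, one_mul],
          ha ▸ congrArg Subtype.val (Subgroup.mem_centralizer_singleton_iff.1 z.2)⟩)⟩
      invFun := fun z => ⟨⟨z.1, by
          obtain ⟨k, hk, hz, -⟩ := (h.2 _).1 (List.mem_toFinset.1 z.2)
          rw [hz, hone, one_mul]; exact hk⟩, Subgroup.mem_centralizer_singleton_iff.2 (Subtype.ext (by
          obtain ⟨k, hk, hz, hcom⟩ := (h.2 _).1 (List.mem_toFinset.1 z.2)
          show z.1 * (a : G) = (a : G) * z.1
          rw [ha]; exact hcom.eq))⟩
      left_inv := fun _ => rfl
      right_inv := fun _ => rfl }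
  rw [Nat.card_congr e, Nat.card_eq_finsetCard, List.toFinset_card_of_nodup h.1, List.length_map]
  rfl

/-- The number of elements commuting with `x`, searched inside the centraliser of a power `y`. -/
noncomputable def centCountVia (o : Ops R) (ls : List (Level R)) (y x : R) : ℕ :=
  List.length (List.rec (motive := fun _ => List (List R)) []
    (fun pre _ ih => cond (lall (basesOf ls) (fun b =>
      Nat.beq (imgW o pre (o.img x b)) (o.img x (imgW o pre b)))) (pre :: ih) ih)
    (centEnum o (basesOf ls) y ls []))

theorem card_centralizer_via (S : Sound (G := G) o) {ls : List (Level R)}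
    (hc : checkChain o ls = true) {x y : R} (hx : S.ok x) (hy : S.ok y) {k : ℕ}
    (hk : S.den y = S.den x ^ k) (a : S.grp ls) (ha : (a : G) = S.den x) :
    Nat.card (Subgroup.centralizer ({a} : Set (S.grp ls))) = centCountVia o ls y x := by
  classical
  have hone : wden S ([] : List R) = 1 := rfl
  have hym : S.den y ∈ S.grp ls := by rw [hk, ← ha]; exact Subgroup.pow_mem _ a.2 k
  have h := centEnum_spec S hc hy hym hc le_rfl [] (by simp)
    (by rw [hone]; exact Subgroup.one_mem _)
  have hok : ∀ ls', checkChain o ls' = true → ∀ pre, (∀ u ∈ pre, S.ok u) →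
      ∀ w ∈ centEnum o (basesOf ls) y ls' pre, ∀ u ∈ w, S.ok u := by
    intro ls'
    induction ls' with
    | nil =>
      intro _ pre hp w hw
      change w ∈ cond _ [pre] [] at hw
      cases hcd : lall (basesOf ls) (fun b =>
          Nat.beq (imgW o pre (o.img y b)) (o.img y (imgW o pre b))) <;> rw [hcd] at hw <;>
        simp at hw
      subst hw; exact hp
    | cons l t ih =>
      intro hl pre hp w hw
      change w ∈ lflat l.orb _ at hw
      rw [lflat_eq, List.mem_flatMap] at hw
      obtain ⟨e, he, hw⟩ := hw
      have F := checkChain_facts S hl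
      cases hcd : cond (Nat.beq (o.img y l.base) l.base)
          (Nat.beq (o.img y (imgW o pre e.pt)) (imgW o pre e.pt)) true <;> rw [hcd] at hw
      · simp at hw
      · refine ih (checkChain_tail hl) (pre ++ [e.u]) (fun u hu => ?_) w hw
        rcases List.mem_append.1 hu with hu | hu
        · exact hp u hu
        · rw [List.mem_singleton] at hu; exact hu ▸ (F.orb_ok e he).1
  let test : List R → Bool := fun pre => lall (basesOf ls) (fun b =>
    Nat.beq (imgW o pre (o.img x b)) (o.img x (imgW o pre b)))
  have hfil : ∀ L : List (List R), List.rec (motive := fun _ => List (List R)) []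
      (fun pre _ ih => cond (test pre) (pre :: ih) ih) L = L.filter test := by
    intro L
    induction L with
    | nil => rfl
    | cons b t ih =>
      cases hb : test b
      · rw [List.filter_cons_of_neg (by simp [hb]), ← ih]; simp [hb]
      · rw [List.filter_cons_of_pos hb, ← ih]; simp [hb]
  let F := ((centEnum o (basesOf ls) y ls []).filter test).map (wden S)
  have hnd : F.Nodup := h.1.sublist (List.filter_sublist.map _)
  have hmem : ∀ g : G, g ∈ F ↔ g ∈ S.grp ls ∧ Commute g (S.den x) := by
    intro g
    constructor
    · intro hg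
      obtain ⟨w, hw, rfl⟩ := List.mem_map.1 hg
      obtain ⟨hwL, hwt⟩ := List.mem_filter.1 hw
      obtain ⟨z, hz, hzw, -⟩ := (h.2 _).1 (List.mem_map_of_mem hwL)
      rw [hone, one_mul] at hzw
      have hwm : wden S w ∈ S.grp ls := hzw ▸ hz
      refine ⟨hwm, eq_of_bases S hc (Subgroup.mul_mem _ hwm (ha ▸ a.2))
        (Subgroup.mul_mem _ (ha ▸ a.2) hwm) fun b hb => ?_⟩
      have hwo := hok ls hc [] (by simp) w hwL
      have := Nat.eq_of_beq_eq_true ((lall_iff _ _).1 hwt b hb)
      rwa [imgW_eq S w hwo, imgW_eq S w hwo, S.img_eq hx, S.img_eq hx, ← S.act_mul,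
        ← S.act_mul] at this
    · rintro ⟨hg, hcom⟩
      have hgy : Commute g (S.den y) := hk ▸ hcom.pow_right k
      obtain ⟨w, hw, rfl⟩ := List.mem_map.1 ((h.2 g).2 ⟨g, hg, by rw [hone, one_mul], hgy⟩)
      refine List.mem_map.2 ⟨w, List.mem_filter.2 ⟨hw, (lall_iff _ _).2 fun b _ => ?_⟩, rfl⟩
      have hwo := hok ls hc [] (by simp) w hw
      rw [imgW_eq S w hwo, imgW_eq S w hwo, S.img_eq hx, S.img_eq hx, ← S.act_mul, ← S.act_mul,
        hcom.eq]
      exact Nat.beq_refl _
  have e : Subgroup.centralizer ({a} : Set (S.grp ls)) ≃ {g // g ∈ F.toFinset} :=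
    { toFun := fun z => ⟨((z : S.grp ls) : G), List.mem_toFinset.2 ((hmem _).2
        ⟨(z : S.grp ls).2,
          ha ▸ congrArg Subtype.val (Subgroup.mem_centralizer_singleton_iff.1 z.2)⟩)⟩
      invFun := fun z => ⟨⟨z.1, ((hmem _).1 (List.mem_toFinset.1 z.2)).1⟩,
        Subgroup.mem_centralizer_singleton_iff.2 (Subtype.ext (by
          show z.1 * (a : G) = (a : G) * z.1
          rw [ha]; exact ((hmem _).1 (List.mem_toFinset.1 z.2)).2.eq))⟩
      left_inv := fun _ => rfl
      right_inv := fun _ => rfl }
  rw [Nat.card_congr e, Nat.card_eq_finsetCard, List.toFinset_card_of_nodup hnd, List.length_map,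
    ← hfil]
  rfl

/-- If `k` pairwise non-conjugate representatives have class sizes adding up to the group order,
every element is conjugate to one of them. -/
theorem exists_isConj_of_class_sum {H : Type*} [Group H] [Finite H] (n : ℕ) (hn : Nat.card H = n)
    {k : ℕ} (r : Fin k → H) (c : Fin k → ℕ)
    (hc : ∀ i, Nat.card (Subgroup.centralizer ({r i} : Set H)) = c i)
    (hdist : Pairwise fun i j => ¬ IsConj (r i) (r j)) (hsum : ∑ i, n / c i = n) (g : H) :
    ∃ i, IsConj (r i) g := by
  classical
  have := Fintype.ofFinite H
  have hcard : ∀ i, (conjugatesOf (r i)).toFinset.card = n / c i := by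
    intro i
    have h1 := MulAction.index_stabilizer (ConjAct H) (r i)
    have horb : MulAction.orbit (ConjAct H) (r i) = conjugatesOf (r i) := by
      ext y; rw [ConjAct.mem_orbit_conjAct]; exact ⟨fun h => h.symm, fun h => h.symm⟩
    rw [horb, ← Nat.card_coe_set_eq] at h1
    rw [← Nat.card_eq_card_toFinset, ← h1, ← hn, ← hc i]
    have hst : Nat.card (Subgroup.centralizer ({r i} : Set H)) =
        Nat.card (MulAction.stabilizer (ConjAct H) (r i)) := by
      rw [Subgroup.centralizer_eq_comap_stabilizer]
      exact Nat.card_congr ((ConjAct.toConjAct (G := H)).toEquiv.subtypeEquiv fun _ => Iff.rfl)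
    have hH : Nat.card (ConjAct H) = Nat.card H :=
      Nat.card_congr (ConjAct.ofConjAct (G := H)).toEquiv
    rw [hst, ← hH]
    exact (Nat.div_eq_of_eq_mul_left Nat.card_pos
      ((MulAction.stabilizer (ConjAct H) (r i)).index_mul_card).symm).symm
  let U := Finset.univ.biUnion fun i => (conjugatesOf (r i)).toFinset
  have hU : U.card = Fintype.card H := by
    rw [Finset.card_biUnion]
    · simp only [hcard]; rw [hsum, ← hn, Nat.card_eq_fintype_card]
    · intro i _ j _ hij
      rw [Function.onFun, Finset.disjoint_left]
      intro y hi hj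
      rw [Set.mem_toFinset] at hi hj
      change IsConj (r _) y at hi hj
      exact hdist hij (hi.trans hj.symm)
  have hg : g ∈ U := (Finset.eq_univ_of_card U hU) ▸ Finset.mem_univ g
  obtain ⟨i, -, hi⟩ := Finset.mem_biUnion.1 hg
  rw [Set.mem_toFinset] at hi
  exact ⟨i, hi⟩

end Cfsg.Agent.Compute
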