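import Cfsg.Prelude.Def_KGroupFacts
import Mathlib

/-!
Central extensions of a group acting on the vertices of an orbital graph, described by a
kernel-valued cocycle on the edges.

`σ : Γ →* G` is a central extension, the point stabiliser of `o` has a unique perfect lift `C.H'`,
and `C.t` is a lift of an element swapping `o` and `p`.  Every edge `(i, j)` of the orbital of
`(o, p)` gets a value `C.val` in the kernel; triangles in one orbit have equal sums and opposite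
edges add up to a constant.  If the values span a subgroup `W` then the kernel lies in `W`.
-/

set_option autoImplicit false

namespace Cfsg.Agent.Compute.EdgeCover

open Subgroup
open scoped commutatorElement

variable {Γ G α : Type*} [Group Γ] [Group G] [MulAction G α]

/-- The hypotheses on the base group and the extension. -/
structure Frame (σ : Γ →* G) (o p : α) (s : G) : Prop where
  surj : Function.Surjective σ
  central : σ.ker ≤ center Γ
  s_o : s • o = p
  s_p : s • p = o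
  s_sq : s * s = 1
  perfect : MulAction.stabilizer G o ≤ ⁅MulAction.stabilizer G o, MulAction.stabilizer G o⁆
  perfect_edge : MulAction.stabilizer G o ⊓ MulAction.stabilizer G p ≤
    ⁅MulAction.stabilizer G o ⊓ MulAction.stabilizer G p,
      MulAction.stabilizer G o ⊓ MulAction.stabilizer G p⁆
  split : ∀ x ∈ ⁅(MulAction.stabilizer G o).comap σ, (MulAction.stabilizer G o).comap σ⁆,
    σ x = 1 → x = 1

/-- Adjacency in the orbital graph. -/
def Adj (G : Type*) [Group G] [MulAction G α] (o p i j : α) : Prop :=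
  ∃ g : G, g • o = i ∧ g • p = j

variable (σ : Γ →* G) (o p : α)

/-- The perfect lift of the stabiliser of `o`. -/
def lift0 : Subgroup Γ :=
  ⁅(MulAction.stabilizer G o).comap σ, (MulAction.stabilizer G o).comap σ⁆

variable {σ o p} {s : G}

theorem Adj.smul {i j : α} (h : Adj G o p i j) (g : G) : Adj G o p (g • i) (g • j) := by
  obtain ⟨k, rfl, rfl⟩ := h
  exact ⟨g * k, mul_smul _ _ _, mul_smul _ _ _⟩

theorem Adj.symm (F : Frame σ o p s) {i j : α} (h : Adj G o p i j) : Adj G o p j i := by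
  obtain ⟨g, rfl, rfl⟩ := h
  exact ⟨g * s, by rw [mul_smul, F.s_o], by rw [mul_smul, F.s_p]⟩

theorem lift0_fix {x : Γ} (hx : x ∈ lift0 σ o) : σ x • o = o := by
  have : lift0 σ o ≤ (MulAction.stabilizer G o).comap σ :=
    commutator_le.2 fun a ha b hb => mul_mem (mul_mem (mul_mem ha hb) (inv_mem ha)) (inv_mem hb)
  exact this hx

namespace Frame

theorem comm_ker (F : Frame σ o p s) {z : Γ} (hz : σ z = 1) (x : Γ) : x * z = z * x :=
  mem_center_iff.1 (F.central (MonoidHom.mem_ker.2 hz)) x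

theorem map_lift0 (F : Frame σ o p s) : (lift0 σ o).map σ = MulAction.stabilizer G o := by
  rw [lift0, map_commutator, map_comap_eq_self_of_surjective F.surj]
  exact le_antisymm (commutator_le.2 fun a ha b hb =>
    mul_mem (mul_mem (mul_mem ha hb) (inv_mem ha)) (inv_mem hb)) F.perfect

theorem exists_lift0 (F : Frame σ o p s) {h : G} (hh : h • o = o) :
    ∃ x ∈ lift0 σ o, σ x = h := by
  have : h ∈ (lift0 σ o).map σ := by rw [F.map_lift0]; exact hh
  exact this

theorem ker_comm (F : Frame σ o p s) (a b : σ.ker) : a * b = b * a :=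
  Subtype.ext (F.comm_ker (MonoidHom.mem_ker.1 b.2) a)

theorem eq_one (F : Frame σ o p s) {x : Γ} (hx : x ∈ lift0 σ o) (h1 : σ x = 1) : x = 1 :=
  F.split x hx h1

/-- Conjugation by a lift of `s` maps the lift of the edge stabiliser into the lift of the vertex
stabiliser. -/
theorem conj_mem (F : Frame σ o p s) {t u : Γ} (ht : σ t = s) (hu : u ∈ lift0 σ o)
    (hup : σ u • p = p) : t⁻¹ * u * t ∈ lift0 σ o := by
  set L := MulAction.stabilizer G o ⊓ MulAction.stabilizer G p with hL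
  have h1 : σ u ∈ ⁅L, L⁆ := F.perfect_edge ⟨lift0_fix hu, hup⟩
  rw [← map_comap_eq_self_of_surjective F.surj L, ← map_commutator] at h1
  obtain ⟨v, hv, hvu⟩ := h1
  have hle : ⁅L.comap σ, L.comap σ⁆ ≤ lift0 σ o :=
    commutator_mono (comap_mono inf_le_left) (comap_mono inf_le_left)
  have huv : u = v := by
    have := F.eq_one (mul_mem hu (inv_mem (hle hv))) (by rw [map_mul, map_inv, hvu, mul_inv_cancel])
    exact mul_inv_eq_one.1 this
  subst huv
  have hconj : (⁅L.comap σ, L.comap σ⁆).map (MulAut.conj t⁻¹).toMonoidHom ≤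
      ⁅L.comap σ, L.comap σ⁆ := by
    rw [map_commutator]
    have : (L.comap σ).map (MulAut.conj t⁻¹).toMonoidHom ≤ L.comap σ := by
      rintro _ ⟨x, ⟨hxo, hxp⟩, rfl⟩
      have e : σ ((MulAut.conj t⁻¹).toMonoidHom x) = s * σ x * s := by
        simp [ht, eq_inv_of_mul_eq_one_left F.s_sq |>.symm]
      show σ _ ∈ L
      rw [e]
      refine ⟨?_, ?_⟩
      · show (s * σ x * s) • o = o
        rw [mul_smul, F.s_o, mul_smul, show σ x • p = p from hxp, F.s_p]
      · show (s * σ x * s) • p = p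
        rw [mul_smul, F.s_p, mul_smul, show σ x • o = o from hxo, F.s_o]
    exact commutator_mono this this
  have := hle (hconj ⟨u, hv, rfl⟩)
  simpa using this

end Frame

/-- A lift of the swap and a section. -/
structure Cover (F : Frame σ o p s) where
  t : Γ
  t_spec : σ t = s
  r : α → Γ
  r_spec : ∀ i, (∃ g : G, g • o = i) → σ (r i) • o = i

variable {F : Frame σ o p s}

namespace Cover

variable (C : Cover F)

/-- `(i, j)` carries the value `z`. -/
def Arc (i j : α) (z : σ.ker) : Prop :=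
  ∃ h ∈ lift0 σ o, ∃ h' ∈ lift0 σ o, C.r i * h * C.t * h' * z = C.r j

theorem r_fix {i : α} (h : ∃ g : G, g • o = i) : σ (C.r i) • o = i := C.r_spec i h

theorem arc_unique {i j : α} {z z' : σ.ker} (h : C.Arc i j z) (h' : C.Arc i j z') : z = z' := by
  obtain ⟨a, ha, b, hb, e⟩ := h
  obtain ⟨a', ha', b', hb', e'⟩ := h'
  have hz := MonoidHom.mem_ker.1 z.2
  have hz' := MonoidHom.mem_ker.1 z'.2
  have he : a * C.t * b * z = a' * C.t * b' * z' := by
    have := e.trans e'.symm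
    simpa only [mul_assoc, mul_right_inj] using this
  have hd : σ ((z' : Γ) * (z : Γ)⁻¹) = 1 := by rw [map_mul, map_inv, hz, hz']; simp
  have h1 : C.t⁻¹ * (a'⁻¹ * a) * C.t = b' * b⁻¹ * ((z' : Γ) * (z : Γ)⁻¹) := by
    calc C.t⁻¹ * (a'⁻¹ * a) * C.t = C.t⁻¹ * a'⁻¹ * (a * C.t * b * z) * (z : Γ)⁻¹ * b⁻¹ := by group
      _ = C.t⁻¹ * a'⁻¹ * (a' * C.t * b' * z') * (z : Γ)⁻¹ * b⁻¹ := by rw [he]
      _ = b' * ((z' : Γ) * (z : Γ)⁻¹) * b⁻¹ := by group
      _ = b' * b⁻¹ * ((z' : Γ) * (z : Γ)⁻¹) := by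
        rw [mul_assoc, ← F.comm_ker hd b⁻¹, ← mul_assoc]
  have hu : a'⁻¹ * a ∈ lift0 σ o := mul_mem (inv_mem ha') ha
  have hup : σ (a'⁻¹ * a) • p = p := by
    have e2 : σ (C.t⁻¹ * (a'⁻¹ * a) * C.t) • o = o := by
      rw [h1, map_mul, hd, mul_one]
      exact lift0_fix (mul_mem hb' (inv_mem hb))
    rw [map_mul, map_mul, map_inv, C.t_spec, mul_smul, mul_smul, F.s_o, inv_smul_eq_iff,
      F.s_o] at e2
    exact e2
  have hm := F.conj_mem C.t_spec hu hup
  rw [h1] at hm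
  have := F.eq_one ((mul_mem_cancel_left (mul_mem hb' (inv_mem hb))).1 hm) hd
  exact Subtype.ext (mul_inv_eq_one.1 this).symm

theorem arc_exists {i j : α} (h : Adj G o p i j) : ∃ z, C.Arc i j z := by
  obtain ⟨g, hi, hj⟩ := h
  have ri := C.r_fix ⟨g, hi⟩
  obtain ⟨a, ha, hag⟩ := F.exists_lift0 (h := (σ (C.r i))⁻¹ * g)
    (by rw [mul_smul, hi, inv_smul_eq_iff, ri])
  have hj' : σ (C.r i * a * C.t) • o = j := by
    rw [map_mul, map_mul, hag, C.t_spec, mul_inv_cancel_left, mul_smul, F.s_o, hj]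
  have rj := C.r_fix (i := j) ⟨_, hj'⟩
  obtain ⟨b, hb, hbg⟩ := F.exists_lift0 (h := (σ (C.r i * a * C.t))⁻¹ * σ (C.r j))
    (by rw [mul_smul, rj, inv_smul_eq_iff, hj'])
  refine ⟨⟨(C.r i * a * C.t * b)⁻¹ * C.r j, ?_⟩, a, ha, b, hb, mul_inv_cancel_left _ _⟩
  rw [MonoidHom.mem_ker, map_mul, map_inv, map_mul _ _ b, hbg, mul_inv_cancel_left, inv_mul_cancel]

open Classical in
/-- The value of an edge. -/
noncomputable def val (i j : α) : σ.ker :=
  if h : ∃ z, C.Arc i j z then h.choose else 1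

theorem arc_val {i j : α} (h : Adj G o p i j) : C.Arc i j (C.val i j) := by
  rw [val, dif_pos (C.arc_exists h)]
  exact (C.arc_exists h).choose_spec

theorem val_eq {i j : α} {z : σ.ker} (h : C.Arc i j z) : C.val i j = z := by
  rw [val, dif_pos ⟨z, h⟩]
  exact C.arc_unique (Exists.choose_spec ⟨z, h⟩) h

/-- The square of the lift of the swap. -/
def w : σ.ker :=
  ⟨C.t * C.t, by rw [MonoidHom.mem_ker, map_mul, C.t_spec, F.s_sq]⟩

theorem val_symm {i j : α} (h : Adj G o p i j) : C.val i j * C.val j i = C.w⁻¹ := by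
  obtain ⟨a, ha, b, hb, e⟩ := C.arc_val h
  have hw := MonoidHom.mem_ker.1 C.w.2
  have hz := MonoidHom.mem_ker.1 (C.val i j).2
  have harc : C.Arc j i ((C.val i j)⁻¹ * C.w⁻¹) := by
    refine ⟨b⁻¹, inv_mem hb, a⁻¹, inv_mem ha, ?_⟩
    rw [← e]
    have hwi : σ (C.w : Γ)⁻¹ = 1 := by rw [map_inv, hw, inv_one]
    push_cast
    calc C.r i * a * C.t * b * (C.val i j : Γ) * b⁻¹ * C.t * a⁻¹ *
          ((C.val i j : Γ)⁻¹ * (C.w : Γ)⁻¹)
        = C.r i * a * C.t * b * ((C.val i j : Γ) * (b⁻¹ * C.t * a⁻¹)) *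
            ((C.val i j : Γ)⁻¹ * (C.w : Γ)⁻¹) := by simp only [mul_assoc]
      _ = C.r i * a * C.t * b * ((b⁻¹ * C.t * a⁻¹) * (C.val i j : Γ)) *
            ((C.val i j : Γ)⁻¹ * (C.w : Γ)⁻¹) := by rw [← F.comm_ker hz]
      _ = C.r i * (a * ((C.t * C.t) * (a⁻¹ * (C.w : Γ)⁻¹))) := by group
      _ = C.r i * (a * ((C.t * C.t) * ((C.w : Γ)⁻¹ * a⁻¹))) := by rw [F.comm_ker hwi]
      _ = C.r i := by rw [w]; group
  rw [C.val_eq harc, mul_inv_cancel_left]

theorem val_move {i j : α} (hij : Adj G o p i j) {γ : Γ} {a b : Γ} {c d : σ.ker}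
    (ha : a ∈ lift0 σ o) (hb : b ∈ lift0 σ o)
    (ei : C.r (σ γ • i) = γ * C.r i * a * c) (ej : C.r (σ γ • j) = γ * C.r j * b * d) :
    C.val (σ γ • i) (σ γ • j) = C.val i j * c⁻¹ * d := by
  apply C.val_eq
  obtain ⟨h, hh, h', hh', e⟩ := C.arc_val hij
  refine ⟨a⁻¹ * h, mul_mem (inv_mem ha) hh, h' * b, mul_mem hh' hb, ?_⟩
  rw [ei, ej, ← e]
  have hc := MonoidHom.mem_ker.1 c.2
  have hz := MonoidHom.mem_ker.1 (C.val i j).2
  have hzc : σ ((C.val i j : Γ) * (c : Γ)⁻¹) = 1 := by rw [map_mul, map_inv, hc, hz]; simp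
  push_cast
  calc γ * C.r i * a * (c : Γ) * (a⁻¹ * h) * C.t * (h' * b) * ((C.val i j : Γ) * (c : Γ)⁻¹ * (d : Γ))
      = γ * C.r i * a * ((c : Γ) * (a⁻¹ * h * C.t * h' * b)) * ((C.val i j : Γ) * (c : Γ)⁻¹) * (d : Γ) := by
        group
    _ = γ * C.r i * a * ((a⁻¹ * h * C.t * h' * b) * (c : Γ)) * ((C.val i j : Γ) * (c : Γ)⁻¹) * (d : Γ) := by
        rw [← F.comm_ker hc]
    _ = γ * C.r i * h * C.t * h' * (b * ((c : Γ) * (C.val i j : Γ) * (c : Γ)⁻¹)) * (d : Γ) := by group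
    _ = γ * C.r i * h * C.t * h' * (b * (C.val i j : Γ)) * (d : Γ) := by
        rw [← F.comm_ker hc (C.val i j : Γ), mul_inv_cancel_right]
    _ = γ * (C.r i * h * C.t * h' * (C.val i j : Γ)) * b * (d : Γ) := by
        rw [F.comm_ker hz b]; group

theorem exists_frame (γ : Γ) {i : α} (h : ∃ g : G, g • o = i) :
    ∃ a ∈ lift0 σ o, ∃ c : σ.ker, C.r (σ γ • i) = γ * C.r i * a * c := by
  obtain ⟨g, hg⟩ := h
  have h2 := C.r_fix (i := σ γ • i) ⟨σ γ * g, by rw [mul_smul, hg]⟩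
  obtain ⟨a, ha, e⟩ := F.exists_lift0 (h := (σ (γ * C.r i))⁻¹ * σ (C.r (σ γ • i)))
    (by rw [mul_smul, h2, inv_smul_eq_iff, map_mul, mul_smul, C.r_fix ⟨g, hg⟩])
  refine ⟨a, ha, ⟨(γ * C.r i * a)⁻¹ * C.r (σ γ • i), ?_⟩, (mul_inv_cancel_left _ _).symm⟩
  rw [MonoidHom.mem_ker, map_mul, map_inv, map_mul _ _ a, e, mul_inv_cancel_left, inv_mul_cancel]

/-- The sum around a triangle is invariant. -/
theorem val_tri {i j k : α} (hij : Adj G o p i j) (hjk : Adj G o p j k) (hki : Adj G o p k i)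
    (g : G) : C.val (g • i) (g • j) * C.val (g • j) (g • k) * C.val (g • k) (g • i) =
      C.val i j * C.val j k * C.val k i := by
  obtain ⟨γ, rfl⟩ := F.surj g
  obtain ⟨g1, h1, -⟩ := id hij
  obtain ⟨g2, h2, -⟩ := id hjk
  obtain ⟨g3, h3, -⟩ := id hki
  obtain ⟨a, ha, c, ei⟩ := C.exists_frame γ ⟨g1, h1⟩
  obtain ⟨b, hb, d, ej⟩ := C.exists_frame γ ⟨g2, h2⟩
  obtain ⟨e, he, f, ek⟩ := C.exists_frame γ ⟨g3, h3⟩
  rw [C.val_move hij ha hb ei ej, C.val_move hjk hb he ej ek, C.val_move hki he ha ek ei]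
  let _ : CommGroup σ.ker := { (inferInstance : Group σ.ker) with mul_comm := F.ker_comm }
  have key : ∀ x y z c d f : σ.ker,
      x * c⁻¹ * d * (y * d⁻¹ * f) * (z * f⁻¹ * c) = x * y * z := by
    intro x y z c d f
    apply Additive.ofMul.injective
    simp only [ofMul_mul, ofMul_inv]
    abel
  exact key _ _ _ _ _ _

/-- Changing the lift of the swap and the section by kernel elements. -/
noncomputable def twist (z₀ : σ.ker) (q : α → σ.ker) : Cover F where
  t := C.t * z₀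
  t_spec := by rw [map_mul, C.t_spec, MonoidHom.mem_ker.1 z₀.2, mul_one]
  r i := C.r i * q i
  r_spec i h := by rw [map_mul, MonoidHom.mem_ker.1 (q i).2, mul_one]; exact C.r_spec i h

theorem twist_r (z₀ : σ.ker) (q : α → σ.ker) (i : α) : (C.twist z₀ q).r i = C.r i * q i := rfl

theorem twist_w (z₀ : σ.ker) (q : α → σ.ker) : (C.twist z₀ q).w = C.w * (z₀ * z₀) := by
  apply Subtype.ext
  show C.t * z₀ * (C.t * z₀) = C.t * C.t * ((z₀ : Γ) * z₀)
  rw [← mul_assoc, mul_assoc C.t, ← F.comm_ker (MonoidHom.mem_ker.1 z₀.2) C.t]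
  simp only [mul_assoc]

theorem twist_val (z₀ : σ.ker) (q : α → σ.ker) {i j : α} (h : Adj G o p i j) :
    (C.twist z₀ q).val i j = C.val i j * q j * (q i)⁻¹ * z₀⁻¹ := by
  apply (C.twist z₀ q).val_eq
  obtain ⟨a, ha, b, hb, e⟩ := C.arc_val h
  refine ⟨a, ha, b, hb, ?_⟩
  show C.r i * (q i : Γ) * a * (C.t * (z₀ : Γ)) * b * _ = C.r j * (q j : Γ)
  rw [← e]
  have hq := MonoidHom.mem_ker.1 (q i).2
  have hz := MonoidHom.mem_ker.1 z₀.2
  push_cast
  calc C.r i * (q i : Γ) * a * (C.t * (z₀ : Γ)) * b *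
        ((C.val i j : Γ) * (q j : Γ) * (q i : Γ)⁻¹ * (z₀ : Γ)⁻¹)
      = C.r i * ((q i : Γ) * (a * C.t)) * ((z₀ : Γ) * b) *
          ((C.val i j : Γ) * (q j : Γ) * (q i : Γ)⁻¹ * (z₀ : Γ)⁻¹) := by simp only [mul_assoc]
    _ = C.r i * ((a * C.t) * (q i : Γ)) * (b * (z₀ : Γ)) *
          ((C.val i j : Γ) * (q j : Γ) * (q i : Γ)⁻¹ * (z₀ : Γ)⁻¹) := by
        rw [← F.comm_ker hq, ← F.comm_ker hz]
    _ = C.r i * a * C.t * ((q i : Γ) * (b * ((z₀ : Γ) *
          ((C.val i j : Γ) * (q j : Γ) * (q i : Γ)⁻¹ * (z₀ : Γ)⁻¹)))) := by simp only [mul_assoc]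
    _ = C.r i * a * C.t * ((b * ((z₀ : Γ) *
          ((C.val i j : Γ) * (q j : Γ) * (q i : Γ)⁻¹ * (z₀ : Γ)⁻¹))) * (q i : Γ)) := by
        rw [← F.comm_ker hq]
    _ = C.r i * a * C.t * b * (C.val i j : Γ) * (q j : Γ) := by
        have hA : (z₀ : Γ) * ((C.val i j : Γ) * (q j : Γ) * (q i : Γ)⁻¹ * (z₀ : Γ)⁻¹) * (q i : Γ) =
            (C.val i j : Γ) * (q j : Γ) := by
          have h3 : σ ((C.val i j : Γ) * (q j : Γ) * (q i : Γ)⁻¹) = 1 := by
            rw [map_mul, map_mul, map_inv, hq, MonoidHom.mem_ker.1 (q j).2,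
              MonoidHom.mem_ker.1 (C.val i j).2]; simp
          rw [← mul_assoc (z₀ : Γ), F.comm_ker h3 (z₀ : Γ)]
          group
        simp only [mul_assoc] at hA ⊢
        rw [hA]

/-- The subgroup generated by the lift of the stabiliser and the lift of the swap. -/
def gen : Subgroup Γ := Subgroup.closure ((lift0 σ o : Set Γ) ∪ {C.t})

theorem r_mem_gen_of {i j : α} (hij : Adj G o p i j) (hv : C.val i j = 1) (hi : C.r i ∈ C.gen) :
    C.r j ∈ C.gen := by
  obtain ⟨a, ha, b, hb, e⟩ := C.arc_val hij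
  rw [← e, hv, OneMemClass.coe_one, mul_one]
  exact mul_mem (mul_mem (mul_mem hi (subset_closure (Or.inl ha)))
    (subset_closure (Or.inr rfl))) (subset_closure (Or.inl hb))

/-- The kernel of a stem extension lies in any subgroup containing all edge values. -/
theorem ker_le [Finite Γ] (hstem : σ.ker ≤ _root_.commutator Γ) (htrans : ∀ i, ∃ g : G, g • o = i)
    (hr : C.r o = 1) (hgen : ∀ i, C.r i ∈ C.gen) (W : Subgroup σ.ker)
    (hW : ∀ i j, Adj G o p i j → C.val i j ∈ W) : W = ⊤ := by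
  rw [eq_top_iff]
  intro z _
  have hsup : ∀ x : Γ, ∃ y ∈ C.gen, ∃ c : σ.ker, x = y * c := by
    intro x
    have h2 := C.r_fix (i := σ x • o) ⟨σ x, rfl⟩
    obtain ⟨a, ha, e⟩ := F.exists_lift0 (h := (σ (C.r (σ x • o)))⁻¹ * σ x)
      (by rw [mul_smul, inv_smul_eq_iff, h2])
    refine ⟨C.r (σ x • o) * a, mul_mem (hgen _) (subset_closure (Or.inl ha)),
      ⟨(C.r (σ x • o) * a)⁻¹ * x, ?_⟩, (mul_inv_cancel_left _ _).symm⟩
    rw [MonoidHom.mem_ker, map_mul, map_inv, map_mul, e, mul_inv_cancel_left, inv_mul_cancel]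
  have hcomm : _root_.commutator Γ ≤ C.gen := by
    rw [_root_.commutator_def, commutator_le]
    intro x _ y _
    obtain ⟨x', hx, c, rfl⟩ := hsup x
    obtain ⟨y', hy, d, rfl⟩ := hsup y
    have e : ⁅x' * (c : Γ), y' * (d : Γ)⁆ = ⁅x', y'⁆ := by
      have hc := F.comm_ker (MonoidHom.mem_ker.1 c.2)
      have hd := F.comm_ker (MonoidHom.mem_ker.1 d.2)
      simp only [commutatorElement_def, mul_inv_rev]
      calc x' * c * (y' * d) * ((c : Γ)⁻¹ * x'⁻¹) * ((d : Γ)⁻¹ * y'⁻¹)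
          = x' * (c * (y' * d)) * (c : Γ)⁻¹ * x'⁻¹ * (d : Γ)⁻¹ * y'⁻¹ := by simp only [mul_assoc]
        _ = x' * y' * ((d : Γ) * x'⁻¹) * (d : Γ)⁻¹ * y'⁻¹ := by rw [← hc]; group
        _ = x' * y' * x'⁻¹ * y'⁻¹ := by rw [← hd]; group
    rw [e]
    exact mul_mem (mul_mem (mul_mem hx hy) (inv_mem hx)) (inv_mem hy)
  let S : Set Γ := {x | ∃ i, ∃ a ∈ lift0 σ o, ∃ c ∈ W, x = C.r i * a * c}
  have hmem : (z : Γ) ∈ Submonoid.closure ((lift0 σ o : Set Γ) ∪ {C.t}) := by
    rw [← Subgroup.closure_toSubmonoid_of_finite]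
    exact hcomm (hstem z.2)
  have key : (z : Γ) ∈ S := by
    generalize (z : Γ) = x at hmem
    induction hmem using Submonoid.closure_induction_right with
    | one => exact ⟨o, 1, one_mem _, 1, one_mem _, by simp [hr]⟩
    | mul_right x _ y hy ih =>
      obtain ⟨i, a, ha, c, hc, rfl⟩ := ih
      have hcc := F.comm_ker (MonoidHom.mem_ker.1 c.2)
      rcases hy with hy | hy
      · exact ⟨i, a * y, mul_mem ha hy, c, hc, by rw [mul_assoc, ← hcc y]; simp only [mul_assoc]⟩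
      · rw [Set.mem_singleton_iff] at hy
        subst hy
        set j := σ (C.r i * a * C.t) • o with hj
        have hij : Adj G o p i j := by
          refine ⟨σ (C.r i * a), ?_, ?_⟩
          · rw [map_mul, mul_smul, lift0_fix ha, C.r_fix (htrans i)]
          · rw [hj, map_mul _ _ C.t, C.t_spec, mul_smul, F.s_o]
        have rj := C.r_fix (htrans j)
        obtain ⟨b, hb, e⟩ := F.exists_lift0 (h := (σ (C.r i * a * C.t))⁻¹ * σ (C.r j))
          (by rw [mul_smul, rj, inv_smul_eq_iff])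
        set d : σ.ker := ⟨(C.r i * a * C.t * b)⁻¹ * C.r j, by
          rw [MonoidHom.mem_ker, map_mul, map_inv, map_mul _ _ b, e, mul_inv_cancel_left,
            inv_mul_cancel]⟩ with hd
        have harc : C.Arc i j d := ⟨a, ha, b, hb, mul_inv_cancel_left _ _⟩
        have hdW : d ∈ W := C.val_eq harc ▸ hW i j hij
        refine ⟨j, b⁻¹, inv_mem hb, d⁻¹ * c, mul_mem (inv_mem hdW) hc, ?_⟩
        have hdd := F.comm_ker (MonoidHom.mem_ker.1 (d⁻¹).2)
        push_cast at hdd ⊢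
        rw [← mul_assoc _ ((d : Γ))⁻¹, mul_assoc (C.r j) b⁻¹, hdd b⁻¹, ← mul_assoc, hd]
        rw [mul_assoc (C.r i * a) (c : Γ), ← hcc C.t]
        group
  obtain ⟨i, a, ha, c, hc, e⟩ := key
  have h1 : σ (C.r i) • o = o := by
    have h2 : σ (z : Γ) = σ (C.r i * a * c) := congrArg σ e
    rw [MonoidHom.mem_ker.1 z.2, map_mul, map_mul, MonoidHom.mem_ker.1 c.2, mul_one] at h2
    have h3 := congrArg (fun g : G => g • o) h2
    simp only [one_smul, mul_smul, lift0_fix ha] at h3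
    exact h3.symm
  rw [C.r_fix (htrans i)] at h1
  subst h1
  rw [hr, one_mul] at e
  have ha1 : a = 1 := F.eq_one ha (by
    have h2 := congrArg σ e
    rw [MonoidHom.mem_ker.1 z.2, map_mul, MonoidHom.mem_ker.1 c.2, mul_one] at h2
    exact h2.symm)
  rw [ha1, one_mul] at e
  exact Subtype.ext e ▸ hc

end Cover

end Cfsg.Agent.Compute.EdgeCover
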