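import Cfsg.Agent.Compute.Chain

/-!
Permutations of `Fin n` packed into one natural number (`w` bits per point), as an instance of
`Cfsg.Agent.Compute.Ops`, with transport along an equivalence `Fin n ≃ α`.
-/

set_option autoImplicit false

namespace Cfsg.Agent.Compute

noncomputable def getP (w a i : ℕ) : ℕ :=
  Nat.land (Nat.shiftRight a (Nat.mul w i)) (Nat.sub (Nat.pow 2 w) 1)

noncomputable def packP (w : ℕ) (f : ℕ → ℕ) (n : ℕ) : ℕ :=
  Nat.rec 0 (fun i acc => Nat.add acc (Nat.shiftLeft (f i) (Nat.mul w i))) n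

noncomputable def allN (n : ℕ) (f : ℕ → Bool) : Bool :=
  Nat.rec true (fun i acc => f i && acc) n

theorem allN_iff (n : ℕ) (f : ℕ → Bool) : allN n f = true ↔ ∀ i < n, f i = true := by
  induction n with
  | zero => simp [allN]
  | succ k ih =>
    have h : allN (k + 1) f = (f k && allN k f) := rfl
    rw [h, Bool.and_eq_true, ih, Nat.forall_lt_succ_right]
    exact and_comm

theorem getP_eq (w a i : ℕ) : getP w a i = a / 2 ^ (w * i) % 2 ^ w := by
  show (a >>> (w * i)) &&& (2 ^ w - 1) = _
  rw [Nat.and_two_pow_sub_one_eq_mod, Nat.shiftRight_eq_div_pow]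

theorem packP_succ (w : ℕ) (f : ℕ → ℕ) (n : ℕ) :
    packP w f (n + 1) = packP w f n + f n * 2 ^ (w * n) := by
  show packP w f n + (f n <<< (w * n)) = _
  rw [Nat.shiftLeft_eq]

theorem packP_lt (w : ℕ) (f : ℕ → ℕ) : ∀ n, (∀ i < n, f i < 2 ^ w) →
    packP w f n < 2 ^ (w * n) := by
  intro n
  induction n with
  | zero => intro; simp [packP]
  | succ k ih =>
    intro h
    rw [packP_succ, Nat.mul_succ, pow_add]
    have h1 := ih fun i hi => h i (by omega)
    have h2 := h k (by omega)
    calc packP w f k + f k * 2 ^ (w * k) < 2 ^ (w * k) + f k * 2 ^ (w * k) := by omega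
      _ = (f k + 1) * 2 ^ (w * k) := by ring
      _ ≤ 2 ^ w * 2 ^ (w * k) := Nat.mul_le_mul_right _ h2
      _ = _ := Nat.mul_comm _ _

theorem packP_congr (w : ℕ) {f g : ℕ → ℕ} : ∀ n, (∀ i < n, f i = g i) →
    packP w f n = packP w g n := by
  intro n
  induction n with
  | zero => intro; rfl
  | succ k ih =>
    intro h
    rw [packP_succ, packP_succ, ih fun i hi => h i (by omega), h k (by omega)]

theorem getP_packP (w : ℕ) (f : ℕ → ℕ) : ∀ n, (∀ i < n, f i < 2 ^ w) → ∀ i < n,
    getP w (packP w f n) i = f i := by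
  intro n
  induction n with
  | zero => intro _ i hi; omega
  | succ k ih =>
    intro h i hi
    have h' : ∀ j < k, f j < 2 ^ w := fun j hj => h j (by omega)
    rw [packP_succ, getP_eq]
    rcases Nat.lt_succ_iff_lt_or_eq.1 hi with hlt | rfl
    · have hk : w * k = w * i + (w + w * (k - i - 1)) := by
        obtain ⟨d, rfl⟩ := Nat.exists_eq_add_of_lt hlt
        rw [show i + d + 1 - i - 1 = d by omega]; ring
      rw [← ih h' i hlt, getP_eq, hk, pow_add, pow_add,
        show f k * (2 ^ (w * i) * (2 ^ w * 2 ^ (w * (k - i - 1))))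
          = 2 ^ (w * i) * (2 ^ w * (f k * 2 ^ (w * (k - i - 1)))) by ring,
        Nat.add_mul_div_left _ _ (by positivity), Nat.add_mul_mod_self_left]
    · rw [Nat.add_mul_div_right _ _ (by positivity), Nat.div_eq_of_lt (packP_lt w f i h'),
        Nat.zero_add, Nat.mod_eq_of_lt (h i (by omega))]

noncomputable def onePerm (w n : ℕ) : ℕ := packP w (fun i => i) n

noncomputable def mulPerm (w n a b : ℕ) : ℕ := packP w (fun i => getP w a (getP w b i)) n

noncomputable def imgPerm (w n a p : ℕ) : ℕ := cond (Nat.ble (p + 1) n) (getP w a p) p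

/-- All digits below `n`, and the number is canonical. -/
noncomputable def validPerm (w n a : ℕ) : Bool :=
  allN n (fun i => Nat.ble (getP w a i + 1) n) && Nat.beq (packP w (fun i => getP w a i) n) a

noncomputable def invPerm (w n a b : ℕ) : Bool :=
  validPerm w n a && validPerm w n b && Nat.beq (mulPerm w n b a) (onePerm w n)

/-- Packed permutations of `n` points, `w` bits per point. -/
noncomputable def permOps (w n : ℕ) : Ops ℕ where
  one := onePerm w n
  mul := mulPerm w n
  eqv := Nat.beq
  img := imgPerm w n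
  okInv := invPerm w n

noncomputable def permFun (w n a : ℕ) (i : Fin n) : Fin n :=
  if h : getP w a i < n then ⟨getP w a i, h⟩ else i

open Classical in
/-- The permutation encoded by a packed number. -/
noncomputable def permDen (w n a : ℕ) : Equiv.Perm (Fin n) :=
  if h : Function.Bijective (permFun w n a) then Equiv.ofBijective _ h else 1

/-- Well-formed packed permutation. -/
def PermOK (w n a : ℕ) : Prop :=
  (∀ i < n, getP w a i < n) ∧ Function.Injective (permFun w n a) ∧
    packP w (fun i => getP w a i) n = a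

theorem permDen_apply {w n a : ℕ} (h : PermOK w n a) (i : Fin n) :
    (permDen w n a i : ℕ) = getP w a i := by
  have hb : Function.Bijective (permFun w n a) := Finite.injective_iff_bijective.1 h.2.1
  rw [permDen, dif_pos hb, Equiv.ofBijective_apply, permFun, dif_pos (h.1 i i.2)]

theorem permOK_ext {w n a b : ℕ} (ha : PermOK w n a) (hb : PermOK w n b)
    (h : permDen w n a = permDen w n b) : a = b := by
  rw [← ha.2.2, ← hb.2.2]
  refine packP_congr w n fun i hi => ?_
  rw [← permDen_apply ha ⟨i, hi⟩, ← permDen_apply hb ⟨i, hi⟩, h]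

theorem permOK_of_pack {w n : ℕ} (hn : n ≤ 2 ^ w) (f : ℕ → ℕ) (σ : Equiv.Perm (Fin n))
    (hf : ∀ i : Fin n, f i = σ i) :
    PermOK w n (packP w f n) ∧ permDen w n (packP w f n) = σ := by
  have hlt : ∀ i < n, f i < n := fun i hi => by rw [hf ⟨i, hi⟩]; exact (σ ⟨i, hi⟩).2
  have hg : ∀ i < n, getP w (packP w f n) i = f i :=
    getP_packP w f n fun i hi => lt_of_lt_of_le (hlt i hi) hn
  have hfun : ∀ i : Fin n, permFun w n (packP w f n) i = σ i := by
    intro i
    apply Fin.ext
    simp [permFun, hg i i.2, hlt i i.2, hf i]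
  have hok : PermOK w n (packP w f n) := by
    refine ⟨fun i hi => by rw [hg i hi]; exact hlt i hi, ?_, packP_congr w n hg⟩
    intro i j h
    rw [hfun, hfun] at h
    exact σ.injective h
  exact ⟨hok, Equiv.ext fun i => Fin.ext (by rw [permDen_apply hok, hg i i.2, hf i])⟩

theorem validPerm_iff {w n a : ℕ} : validPerm w n a = true ↔
    (∀ i < n, getP w a i < n) ∧ packP w (fun i => getP w a i) n = a := by
  simp only [validPerm, Bool.and_eq_true, allN_iff, Nat.ble_eq, Nat.beq_eq, Nat.add_one_le_iff]

/-- Action on natural numbers. -/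
def permAct (n : ℕ) (g : Equiv.Perm (Fin n)) (p : ℕ) : ℕ :=
  if h : p < n then (g ⟨p, h⟩ : ℕ) else p

/-- Soundness of packed permutations. -/
noncomputable def permSound (w n : ℕ) (hn : n ≤ 2 ^ w) :
    Sound (G := Equiv.Perm (Fin n)) (permOps w n) where
  den := permDen w n
  ok := PermOK w n
  act := permAct n
  act_one p := by simp [permAct]
  act_mul g h p := by
    by_cases hp : p < n
    · simp [permAct, hp]
    · simp [permAct, hp]
  ok_one := (permOK_of_pack hn (fun i => i) 1 (fun _ => rfl)).1
  den_one := (permOK_of_pack hn (fun i => i) 1 (fun _ => rfl)).2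
  ok_mul {a b} ha hb := (permOK_of_pack hn (fun i => getP w a (getP w b i))
    (permDen w n a * permDen w n b) (fun i => by
      rw [← permDen_apply hb i, ← permDen_apply ha]; rfl)).1
  den_mul {a b} ha hb := (permOK_of_pack hn (fun i => getP w a (getP w b i))
    (permDen w n a * permDen w n b) (fun i => by
      rw [← permDen_apply hb i, ← permDen_apply ha]; rfl)).2
  img_eq {a} ha p := by
    show imgPerm w n a p = _
    by_cases hp : p < n
    · have : Nat.ble (p + 1) n = true := Nat.ble_eq.mpr hp
      simp [imgPerm, this, permAct, hp, permDen_apply ha ⟨p, hp⟩]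
    · have : Nat.ble (p + 1) n = false := by
        rw [Bool.eq_false_iff]; intro h; exact hp (Nat.ble_eq.mp h)
      simp [imgPerm, this, permAct, hp]
  eqv_iff {a b} ha hb := by
    show Nat.beq a b = true ↔ _
    rw [Nat.beq_eq]
    exact ⟨fun h => by rw [h], permOK_ext ha hb⟩
  okInv_sound {a b} h := by
    have h' : invPerm w n a b = true := h
    simp only [invPerm, Bool.and_eq_true, validPerm_iff, Nat.beq_eq] at h'
    obtain ⟨⟨⟨ha, hca⟩, hb, hcb⟩, hm⟩ := h'
    have hid : ∀ i : Fin n, permFun w n b (permFun w n a i) = i := by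
      intro i
      apply Fin.ext
      have e : getP w (mulPerm w n b a) i = getP w b (getP w a i) :=
        getP_packP w _ n (fun j hj => lt_of_lt_of_le (hb _ (ha j hj)) hn) i i.2
      rw [hm] at e
      have e1 : getP w (onePerm w n) i = i :=
        getP_packP w _ n (fun j hj => lt_of_lt_of_le hj hn) i i.2
      simp [permFun, ha i i.2, hb _ (ha i i.2), ← e, e1]
    have ia : Function.Injective (permFun w n a) := Function.LeftInverse.injective hid
    have ib : Function.Injective (permFun w n b) := by
      refine Finite.injective_iff_surjective.2 fun i => ⟨permFun w n a i, hid i⟩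
    have oa : PermOK w n a := ⟨ha, ia, hca⟩
    have ob : PermOK w n b := ⟨hb, ib, hcb⟩
    refine ⟨oa, ob, eq_inv_of_mul_eq_one_left (Equiv.ext fun i => Fin.ext ?_)⟩
    have := congrArg Fin.val (hid i)
    simp only [permFun, ha i i.2, dite_true, hb _ (ha i i.2)] at this
    simpa [permDen_apply ob, permDen_apply oa] using this

/-- Transport of soundness along a group isomorphism. -/
def Sound.congr {R : Type} {o : Ops R} {G : Type*} [Group G] {H : Type*} [Group H]
    (S : Sound (G := G) o) (e : G ≃* H) : Sound (G := H) o where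
  den a := e (S.den a)
  ok := S.ok
  act h p := S.act (e.symm h) p
  act_one p := by simp [S.act_one]
  act_mul g h p := by simp [S.act_mul]
  ok_one := S.ok_one
  den_one := by simp [S.den_one]
  ok_mul := S.ok_mul
  den_mul ha hb := by simp [S.den_mul ha hb]
  img_eq ha p := by simp [S.img_eq ha]
  eqv_iff ha hb := by simp [S.eqv_iff ha hb]
  okInv_sound h := by
    obtain ⟨a, b, c⟩ := S.okInv_sound h
    exact ⟨a, b, by simp [c]⟩

/-- Packed permutations acting on `α` through a numbering. -/
noncomputable def permSoundOn {α : Type*} (w n : ℕ) (hn : n ≤ 2 ^ w) (e : Fin n ≃ α) :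
    Sound (G := Equiv.Perm α) (permOps w n) :=
  (permSound w n hn).congr e.permCongrHom

theorem permSoundOn_den_apply {α : Type*} {w n : ℕ} (hn : n ≤ 2 ^ w) (e : Fin n ≃ α) {a : ℕ}
    (ha : PermOK w n a) (x : α) :
    ((e.symm ((permSoundOn w n hn e).den a x) : Fin n) : ℕ) = getP w a (e.symm x) := by
  simp [permSoundOn, Sound.congr, permSound, Equiv.permCongrHom, Equiv.permCongr_apply,
    permDen_apply ha]

theorem permSoundOn_den_eq {α : Type*} {w n : ℕ} (hn : n ≤ 2 ^ w) (e : Fin n ≃ α) {a : ℕ}
    (ha : PermOK w n a) (σ : Equiv.Perm α)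
    (h : ∀ i : Fin n, (e.symm (σ (e i)) : ℕ) = getP w a i) :
    (permSoundOn w n hn e).den a = σ := by
  refine Equiv.ext fun x => ?_
  apply e.symm.injective
  apply Fin.ext
  rw [permSoundOn_den_apply hn e ha]
  have := h (e.symm x)
  rw [e.apply_symm_apply] at this
  exact this.symm

theorem permSoundOn_act {α : Type*} {w n : ℕ} (hn : n ≤ 2 ^ w) (e : Fin n ≃ α)
    (g : Equiv.Perm α) (x : α) :
    (permSoundOn w n hn e).act g (e.symm x : ℕ) = (e.symm (g x) : ℕ) := by
  simp [permSoundOn, Sound.congr, permSound, permAct, Equiv.permCongrHom, Equiv.permCongr_apply]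

end Cfsg.Agent.Compute
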