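import Cfsg.Agent.Compute.Chain

/-!
Further kernel checks on top of a stabiliser chain: generation from given elements by straight-line
programs, products of representations, and centralisers of elements.
-/

set_option autoImplicit false

namespace Cfsg.Agent.Compute

variable {R : Type} {G : Type*} [Group G] {o : Ops R}

/-- Products of the listed earlier elements. -/
noncomputable def wordVal (o : Ops R) (acc : List R) (w : List ℕ) : R :=
  List.rec o.one (fun i _ ih => o.mul (nth o.one acc i) ih) w

/-- Run a straight-line program. -/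
noncomputable def slpRun (o : Ops R) (ws : List (List ℕ)) : List R → List R :=
  List.rec (fun acc => acc) (fun w _ ih acc => ih (acc ++ [wordVal o acc w])) ws

/-- Check that the chain's group is generated by `prim`. -/
noncomputable def genBy (o : Ops R) (ls : List (Level R)) (prim : List R)
    (ws : List (List ℕ)) : Bool :=
  lall prim (fun a => sift o ls a) &&
    lall (nextGens ls) (fun g => Option.isSome (lfind (slpRun o ws prim) (fun a => o.eqv a g.1)))

theorem nth_ok (P : R → Prop) (d : R) (hd : P d) : ∀ (l : List R), (∀ a ∈ l, P a) → ∀ i,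
    P (nth d l i) := by
  intro l
  induction l with
  | nil => intro _ i; exact hd
  | cons a t ih =>
    intro h i
    cases i with
    | zero => exact h a List.mem_cons_self
    | succ j => exact ih (fun b hb => h b (List.mem_cons_of_mem _ hb)) j

theorem slpRun_mem (S : Sound (G := G) o) (H : Subgroup G) : ∀ (ws : List (List ℕ)) (acc : List R),
    (∀ a ∈ acc, S.ok a ∧ S.den a ∈ H) → ∀ a ∈ slpRun o ws acc, S.ok a ∧ S.den a ∈ H := by
  intro ws
  induction ws with
  | nil => intro acc h; exact h
  | cons w t ih =>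
    intro acc h
    have hw : S.ok (wordVal o acc w) ∧ S.den (wordVal o acc w) ∈ H := by
      clear ih
      induction w with
      | nil => exact ⟨S.ok_one, by rw [show wordVal o acc [] = o.one from rfl, S.den_one]; exact H.one_mem⟩
      | cons i u ihu =>
        have hi := nth_ok (fun r => S.ok r ∧ S.den r ∈ H) o.one
          ⟨S.ok_one, by rw [S.den_one]; exact H.one_mem⟩ acc h i
        exact ⟨S.ok_mul hi.1 ihu.1, by
          rw [show wordVal o acc (i :: u) = o.mul (nth o.one acc i) (wordVal o acc u) from rfl,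
            S.den_mul hi.1 ihu.1]
          exact H.mul_mem hi.2 ihu.2⟩
    refine ih (acc ++ [wordVal o acc w]) fun a ha => ?_
    rcases List.mem_append.1 ha with ha | ha
    · exact h a ha
    · rw [List.mem_singleton] at ha
      exact ha ▸ hw

theorem genBy_sound (S : Sound (G := G) o) {ls : List (Level R)} {prim : List R}
    {ws : List (List ℕ)} (hc : checkChain o ls = true) (h : genBy o ls prim ws = true)
    (hp : ∀ a ∈ prim, S.ok a) :
    S.grp ls = Subgroup.closure (S.den '' {a | a ∈ prim}) := by
  have M := checkChain_sound S hc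
  simp only [genBy, Bool.and_eq_true, lall_iff] at h
  refine le_antisymm ((Subgroup.closure_le _).2 ?_) ((Subgroup.closure_le _).2 ?_)
  · rintro _ ⟨a, ⟨g, hg, rfl⟩, rfl⟩
    obtain ⟨b, hb⟩ := Option.isSome_iff_exists.1 (h.2 g hg)
    obtain ⟨hb, he⟩ := lfind_some hb
    obtain ⟨ob, hbm⟩ := slpRun_mem S (Subgroup.closure (S.den '' {a | a ∈ prim})) ws prim
      (fun a ha => ⟨hp a ha, Subgroup.subset_closure ⟨a, ha, rfl⟩⟩) b hb
    rw [← (S.eqv_iff ob (M.gens_ok g hg)).1 he]; exact hbm
  · rintro _ ⟨a, ha, rfl⟩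
    exact (M.sift_iff a (hp a ha)).1 (h.1 a ha)

/-! ### Pairs -/

/-- Componentwise operations, moving points through the first component. -/
noncomputable def prodOps {A B : Type} (oa : Ops A) (ob : Ops B) : Ops (A × B) where
  one := (oa.one, ob.one)
  mul a b := (oa.mul a.1 b.1, ob.mul a.2 b.2)
  eqv a b := oa.eqv a.1 b.1 && ob.eqv a.2 b.2
  img a p := oa.img a.1 p
  okInv a b := oa.okInv a.1 b.1 && ob.okInv a.2 b.2

/-- Soundness of pairs. -/
def Sound.prod {A B : Type} {oa : Ops A} {ob : Ops B} {H : Type*} [Group H]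
    (SA : Sound (G := G) oa) (SB : Sound (G := H) ob) :
    Sound (G := G × H) (prodOps oa ob) where
  den a := (SA.den a.1, SB.den a.2)
  ok a := SA.ok a.1 ∧ SB.ok a.2
  act g p := SA.act g.1 p
  act_one p := SA.act_one p
  act_mul g h p := SA.act_mul g.1 h.1 p
  ok_one := ⟨SA.ok_one, SB.ok_one⟩
  den_one := Prod.ext SA.den_one SB.den_one
  ok_mul ha hb := ⟨SA.ok_mul ha.1 hb.1, SB.ok_mul ha.2 hb.2⟩
  den_mul ha hb := Prod.ext (SA.den_mul ha.1 hb.1) (SB.den_mul ha.2 hb.2)
  img_eq ha p := SA.img_eq ha.1 p
  eqv_iff {a b} ha hb := by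
    show (oa.eqv a.1 b.1 && ob.eqv a.2 b.2) = true ↔ _
    rw [Bool.and_eq_true, SA.eqv_iff ha.1 hb.1, SB.eqv_iff ha.2 hb.2, Prod.ext_iff]
  okInv_sound {a b} h := by
    have h' : (oa.okInv a.1 b.1 && ob.okInv a.2 b.2) = true := h
    rw [Bool.and_eq_true] at h'
    obtain ⟨x1, y1, z1⟩ := SA.okInv_sound h'.1
    obtain ⟨x2, y2, z2⟩ := SB.okInv_sound h'.2
    exact ⟨⟨x1, x2⟩, ⟨y1, y2⟩, Prod.ext z1 z2⟩

/-! ### Powers and centralisers -/

noncomputable def powR (o : Ops R) (x : R) (k : ℕ) : R :=
  Nat.rec o.one (fun _ ih => o.mul x ih) k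

theorem powR_sound (S : Sound (G := G) o) {x : R} (hx : S.ok x) :
    ∀ k, S.ok (powR o x k) ∧ S.den (powR o x k) = S.den x ^ k := by
  intro k
  induction k with
  | zero => exact ⟨S.ok_one, by rw [show powR o x 0 = o.one from rfl, S.den_one, pow_zero]⟩
  | succ j ih =>
    exact ⟨S.ok_mul hx ih.1, by
      rw [show powR o x (j + 1) = o.mul x (powR o x j) from rfl, S.den_mul hx ih.1, ih.2,
        pow_succ']⟩

/-- `(c, k)` for each lower level: `c = x ^ k` sends the first base point to that level's base. -/
noncomputable def powsOK (o : Ops R) (x : R) (b0 : ℕ) (ls : List (Level R)) :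
    List (R × ℕ) → Bool :=
  List.rec (fun cs => cs.isEmpty)
    (fun l _ ih cs =>
      List.rec false
        (fun c ct _ => o.eqv c.1 (powR o x c.2) && Nat.beq (o.img c.1 b0) l.base && ih ct) cs) ls

/-- The candidates below the first level for an element commuting with `x`. -/
noncomputable def descend (o : Ops R) (x : R) (p0 : ℕ) (ls : List (Level R)) :
    List (R × ℕ) → R → List R :=
  List.rec (fun _ g => cond (o.eqv (o.mul g x) (o.mul x g)) [g] [])
    (fun l _ ih cs g =>
      List.rec []
        (fun c ct _ =>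
          Option.rec [] (fun e => ih ct (o.mul g e.u))
            (lfind l.orb (fun e => Nat.beq (o.img g e.pt) (o.img c.1 p0)))) cs) ls

/-- Check that all elements commuting with `x` are among `pows`. -/
noncomputable def centSelf (o : Ops R) (l : Level R) (ls : List (Level R)) (x : R)
    (cs : List (R × ℕ)) (pows : List R) : Bool :=
  lall l.orb (fun e =>
    lall (descend o x e.pt ls cs e.u)
      (fun g => Option.isSome (lfind pows (fun a => o.eqv a g))))

theorem act_inj (S : Sound (G := G) o) (g : G) {p q : ℕ} (h : S.act g p = S.act g q) : p = q := by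
  have := congrArg (S.act g⁻¹) h
  rwa [← S.act_mul, ← S.act_mul, inv_mul_cancel, S.act_one, S.act_one] at this

theorem descend_complete (S : Sound (G := G) o) {x : R} (hx : S.ok x) (b0 p0 : ℕ) :
    ∀ (ls : List (Level R)), checkChain o ls = true → ∀ (cs : List (R × ℕ)),
      powsOK o x b0 ls cs = true → (∀ c ∈ cs, S.ok c.1) → ∀ r, S.ok r → ∀ h ∈ S.grp ls,
      S.act (S.den r * h) b0 = p0 → Commute (S.den r * h) (S.den x) →
      ∃ g ∈ descend o x p0 ls cs r, S.ok g ∧ S.den g = S.den r * h := by
  intro ls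
  induction ls with
  | nil =>
    intro _ cs _ _ r hr h hh _ hcom
    have h1 : h = 1 := by simpa [Sound.grp, nextGens] using hh
    subst h1
    rw [mul_one] at hcom
    have : o.eqv (o.mul r x) (o.mul x r) = true :=
      (S.eqv_iff (S.ok_mul hr hx) (S.ok_mul hx hr)).2 (by
        rw [S.den_mul hr hx, S.den_mul hx hr]; exact hcom.eq)
    refine ⟨r, ?_, hr, (mul_one _).symm⟩
    show r ∈ cond (o.eqv (o.mul r x) (o.mul x r)) [r] []
    simp [this]
  | cons l t ih =>
    intro hc cs hcs hcok r hr h hh hp hcom
    match cs with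
    | [] => simp [powsOK] at hcs
    | c :: ct =>
      have hcs' : (o.eqv c.1 (powR o x c.2) && Nat.beq (o.img c.1 b0) l.base &&
          powsOK o x b0 t ct) = true := hcs
      simp only [Bool.and_eq_true, Nat.beq_eq] at hcs'
      have oc : S.ok c.1 := hcok c List.mem_cons_self
      have hpow := powR_sound S hx c.2
      have hcd : S.den c.1 = S.den x ^ c.2 := by
        rw [(S.eqv_iff oc hpow.1).1 hcs'.1.1, hpow.2]
      have F := checkChain_facts S hc
      obtain ⟨e, he, k, hk, rfl⟩ := F.coset (checkChain_sound S (checkChain_tail hc)) hh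
      obtain ⟨oe, _, _, hact⟩ := F.orb_ok e he
      have hb : l.base = S.act (S.den c.1) b0 := by rw [← S.img_eq oc]; exact hcs'.1.2.symm
      have htarget : o.img r e.pt = o.img c.1 p0 := by
        rw [S.img_eq hr, S.img_eq oc, ← hp, ← S.act_mul, ← hact]
        have hcom' : Commute (S.den r * (S.den e.u * k)) (S.den c.1) := hcd ▸ hcom.pow_right _
        rw [← hcom'.eq, S.act_mul (S.den r * (S.den e.u * k)) (S.den c.1) b0, ← hb, S.act_mul,
          S.act_mul, F.next_fix k hk]
      obtain ⟨e', he'⟩ : ∃ e', lfind l.orb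
          (fun e => Nat.beq (o.img r e.pt) (o.img c.1 p0)) = some e' := by
        cases hf : lfind l.orb (fun e => Nat.beq (o.img r e.pt) (o.img c.1 p0)) with
        | none => have := lfind_none hf he; simp [htarget] at this
        | some e' => exact ⟨e', rfl⟩
      obtain ⟨hm, hq⟩ := lfind_some he'
      have hee : e' = e := List.inj_on_of_nodup_map F.nodup hm he (by
        have := Nat.eq_of_beq_eq_true hq
        rw [← htarget, S.img_eq hr, S.img_eq hr] at this
        exact act_inj S _ this)
      subst hee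
      have hassoc : S.den (o.mul r e'.u) * k = S.den r * (S.den e'.u * k) := by
        rw [S.den_mul hr oe, mul_assoc]
      obtain ⟨g, hg, og, hgd⟩ := ih (checkChain_tail hc) ct hcs'.2
        (fun d hd => hcok d (List.mem_cons_of_mem _ hd)) (o.mul r e'.u) (S.ok_mul hr oe) k hk
        (by rw [hassoc]; exact hp) (by rw [hassoc]; exact hcom)
      refine ⟨g, ?_, og, by rw [hgd, hassoc]⟩
      show g ∈ Option.rec (motive := fun _ => List R) [] (fun e => descend o x p0 t ct (o.mul r e.u))
        (lfind l.orb (fun e => Nat.beq (o.img r e.pt) (o.img c.1 p0)))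
      rw [he']; exact hg

/-- Certificate that `x` has prime order `p` and is its own centraliser in the chain's group. -/
noncomputable def selfCentralising (o : Ops R) (l : Level R) (ls : List (Level R)) (x xi : R)
    (p : ℕ) (cs : List (R × R × ℕ)) : Bool :=
  o.okInv x xi && sift o (l :: ls) x && o.eqv (powR o x p) o.one && !(o.eqv x o.one) &&
    lall cs (fun c => o.okInv c.1 c.2.1) &&
    powsOK o x l.base ls (cs.map fun c => (c.1, c.2.2)) &&
    centSelf o l ls x (cs.map fun c => (c.1, c.2.2))
      ((List.range p).map fun k => powR o x k)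

theorem selfCentralising_sound (S : Sound (G := G) o) {l : Level R} {ls : List (Level R)}
    {x xi : R} {p : ℕ} {cs : List (R × R × ℕ)} (hp : p.Prime)
    (hc : checkChain o (l :: ls) = true)
    (h : selfCentralising o l ls x xi p cs = true) :
    ∃ a : S.grp (l :: ls), (a : G) = S.den x ∧ orderOf a = p ∧
      Nat.card (Subgroup.centralizer ({a} : Set (S.grp (l :: ls)))) = p := by
  simp only [selfCentralising, Bool.and_eq_true, lall_iff, Bool.not_eq_true'] at h
  obtain ⟨⟨⟨⟨⟨⟨hx, hs⟩, hpw⟩, hne⟩, hcs⟩, hpk⟩, hcent⟩ := h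
  have ox := (S.okInv_sound hx).1
  have M := checkChain_sound S hc
  let a : S.grp (l :: ls) := ⟨S.den x, (M.sift_iff x ox).1 hs⟩
  have hne' : a ≠ 1 := fun e => by
    rw [(S.eqv_iff ox S.ok_one).2 (by rw [S.den_one]; exact congrArg Subtype.val e)] at hne
    simp at hne
  have : Fact p.Prime := ⟨hp⟩
  have hord : orderOf a = p := orderOf_eq_prime (Subtype.ext (by
    show S.den x ^ p = 1
    rw [← (powR_sound S ox p).2, (S.eqv_iff (powR_sound S ox p).1 S.ok_one).1 hpw, S.den_one]))
    hne'
  refine ⟨a, rfl, hord, ?_⟩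
  suffices Subgroup.centralizer ({a} : Set (S.grp (l :: ls))) = Subgroup.zpowers a by
    rw [this, Nat.card_zpowers, hord]
  refine le_antisymm (fun g hg => ?_) (Subgroup.zpowers_le.2
    (Subgroup.mem_centralizer_singleton_iff.2 rfl))
  have hcom : Commute (g : G) (S.den x) :=
    congrArg Subtype.val (Subgroup.mem_centralizer_singleton_iff.1 hg)
  have F := checkChain_facts S hc
  obtain ⟨e, he, k, hk, hgk⟩ := F.coset (checkChain_sound S (checkChain_tail hc)) g.2
  obtain ⟨oe, _, _, hact⟩ := F.orb_ok e he
  have hcok : ∀ c ∈ cs.map (fun c => (c.1, c.2.2)), S.ok c.1 := by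
    intro c hc'
    obtain ⟨d, hd, rfl⟩ := List.mem_map.1 hc'
    exact (S.okInv_sound (hcs d hd)).1
  obtain ⟨r, hr, orr, hrd⟩ := descend_complete S ox l.base e.pt ls (checkChain_tail hc) _ hpk hcok
    e.u oe k hk (by rw [S.act_mul, F.next_fix k hk, hact]) (hgk ▸ hcom)
  simp only [centSelf, lall_iff] at hcent
  obtain ⟨b, hb⟩ := Option.isSome_iff_exists.1 (hcent e he r hr)
  obtain ⟨hb, hbe⟩ := lfind_some hb
  obtain ⟨j, _, rfl⟩ := List.mem_map.1 hb
  refine Subgroup.mem_zpowers_iff.2 ⟨j, Subtype.ext ?_⟩
  rw [zpow_natCast, SubmonoidClass.coe_pow]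
  show S.den x ^ j = g
  rw [← (powR_sound S ox j).2, (S.eqv_iff (powR_sound S ox j).1 orr).1 hbe, hrd, hgk]

end Cfsg.Agent.Compute
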