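import Cfsg.Agent.Compute.Centralizer2
import Cfsg.Agent.Compute.PermRep
import Cfsg.Agent.Compute.Search
import Cfsg.Agent.FusionSys.SimpleCert

/-!
Kernel-checkable certificates for the simplicity criterion of fusion systems, over a stabiliser chain.
-/

set_option autoImplicit false

namespace Cfsg.Agent.Compute

variable {R : Type}

noncomputable def lany {α : Type} (l : List α) (f : α → Bool) : Bool :=
  List.rec false (fun a _ ih => f a || ih) l

theorem lany_iff {α : Type} (l : List α) (f : α → Bool) : lany l f = true ↔ ∃ a ∈ l, f a = true := by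
  induction l with
  | nil => simp [lany]
  | cons a t ih =>
    have h : lany (a :: t) f = (f a || lany t f) := rfl
    simp [h, ih]

/-- Membership up to equality of codes. -/
noncomputable def memC (o : Ops R) (x : R) (l : List R) : Bool := lany l (fun e => o.eqv x e)

/-- No code occurs twice. -/
noncomputable def nodupC (o : Ops R) (l : List R) : Bool :=
  List.rec true (fun a t ih => !(memC o a t) && ih) l

/-- A subgroup given by generators and the list of its elements, each a generator times an earlier one. -/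
structure SubCert (R : Type) where
  gens : List (R × R)
  elems : List (R × ℕ × ℕ)

/-- All elements, the identity first. -/
noncomputable def SubCert.all (o : Ops R) (C : SubCert R) : List R :=
  o.one :: List.rec [] (fun a _ ih => a.1 :: ih) C.elems

/-- Every listed element is a product of a generator and an earlier element. -/
noncomputable def buildOK (o : Ops R) (gens : List (R × R)) (rest : List (R × ℕ × ℕ)) : List R → Bool :=
  List.rec (fun _ => true)
    (fun e _ ih acc => o.eqv e.1 (o.mul (nth (o.one, o.one) gens e.2.1).1 (nth o.one acc e.2.2)) &&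
      ih (acc ++ [e.1])) rest

noncomputable def SubCert.check (o : Ops R) (ls : List (Level R)) (C : SubCert R) : Bool :=
  lall C.gens (fun g => o.okInv g.1 g.2 && sift o ls g.1) && buildOK o C.gens C.elems [o.one] &&
    nodupC o (C.all o) && lall C.gens (fun g => lall (C.all o) (fun e => memC o (o.mul g.1 e) (C.all o)))

/-- A colouring of the points below `N`, packed in 7-bit fields. -/
structure PointColour where
  N : ℕ
  tbl : ℕ

/-- The data of a certificate. -/
structure FusionCert (R : Type) where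
  P : SubCert R
  Q : SubCert R
  z : R
  c : R × R
  els : List (R × R × ℕ)
  fus : List (R × R × List ℕ)
  words : List (List ℕ)
  col : PointColour

/-- Is the colouring invariant under the listed elements? -/
noncomputable def PointColour.invOK (o : Ops R) (col : PointColour) (all : List R) : Bool :=
  lall all (fun e => allN col.N (fun p => Nat.beq (getP 7 col.tbl (o.img e p)) (getP 7 col.tbl p)))

/-- A necessary condition, read off the colouring at the base, for `w` to normalise the subgroup. -/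
noncomputable def normW (o : Ops R) (col : PointColour) (bases : List ℕ) (gens : List (R × R))
    (w : List R) : Bool :=
  lall gens (fun g => lall bases (fun b => Nat.ble col.N (imgW o w b) ||
    Nat.beq (getP 7 col.tbl (imgW o w (o.img g.1 b))) (getP 7 col.tbl (imgW o w b))))

/-- Fusion steps: each conjugates a word in the known elements into the subgroup. -/
noncomputable def runFusC (o : Ops R) (ls : List (Level R)) (all : List R) (steps : List (R × R × List ℕ)) :
    List R → Option (List R) :=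
  List.rec (fun known => some known)
    (fun s _ ih known =>
      cond (o.okInv s.1 s.2.1 && sift o ls s.1 && memC o (o.mul (o.mul s.1 (wordVal o known s.2.2)) s.2.1) all)
        (ih (known ++ [o.mul (o.mul s.1 (wordVal o known s.2.2)) s.2.1])) none) steps

noncomputable def checkFusion (o : Ops R) (ls : List (Level R)) (k : ℕ) (D : FusionCert R) : Bool :=
  D.P.check o ls && D.Q.check o ls && Nat.beq (D.P.all o).length k &&
    (memC o D.z (D.P.all o) && !(o.eqv D.z o.one) &&
      lall (D.P.all o) (fun e => cond (lall D.P.gens (fun g => o.eqv (o.mul g.1 e) (o.mul e g.1)))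
        (o.eqv e o.one || o.eqv e D.z) true) &&
      lall D.P.gens (fun g => o.eqv (o.mul g.1 D.z) (o.mul D.z g.1))) &&
    (o.okInv D.c.1 D.c.2 && sift o ls D.c.1 && !(o.eqv D.c.1 o.one) &&
      o.eqv (powR o D.c.1 3) o.one &&
      lall D.P.gens (fun g => memC o (o.mul (o.mul D.c.1 g.1) D.c.2) (D.P.all o)) &&
      D.col.invOK o (D.P.all o) && Nat.ble ((centEnum2 o (basesOf ls) D.z ls [] []).filter
        (normW o D.col (basesOf ls) D.P.gens)).length (3 * k)) &&
    (lall D.Q.gens (fun r => memC o r.1 (D.P.all o)) &&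
      lall D.P.gens (fun g => lall D.Q.gens (fun r => memC o (o.mul (o.mul g.1 r.1) g.2) (D.Q.all o))) &&
      lall (D.P.all o) (fun e => cond (lall D.Q.gens (fun r => o.eqv (o.mul r.1 e) (o.mul e r.1)))
        (memC o e (D.Q.all o)) true)) &&
    (lall D.els (fun x => o.okInv x.1 x.2.1 && sift o ls x.1 && o.eqv (powR o x.1 (2 ^ x.2.2)) o.one &&
        lall D.Q.gens (fun r => memC o (o.mul (o.mul x.1 r.1) x.2.1) (D.Q.all o))) &&
      o.eqv D.c.1 (List.rec o.one (fun x _ ih => o.mul x.1 ih) D.els)) &&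
    Option.rec false (fun known =>
      lall D.P.gens (fun g => lany D.words (fun w => o.eqv g.1 (wordVal o known w))))
      (runFusC o ls (D.P.all o) D.fus [D.z])

section Sound

variable {G : Type*} [Group G] {o : Ops R} (S : Sound (G := G) o) (heq : ∀ a b : R, o.eqv a b = true → a = b)
include heq

omit [Group G] in
theorem mem_of_memC {x : R} {l : List R} (h : memC o x l = true) : x ∈ l := by
  obtain ⟨e, he, h'⟩ := (lany_iff _ _).1 h
  exact heq _ _ h' ▸ he

theorem wordVal_ok {H : Subgroup G} {known : List R} (hk : ∀ a ∈ known, S.ok a ∧ S.den a ∈ H) :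
    ∀ w : List ℕ, S.ok (wordVal o known w) ∧ S.den (wordVal o known w) ∈ H := fun w =>
  slpRun_mem S H [w] known hk _ (by
    show _ ∈ known ++ [wordVal o known w]
    exact List.mem_append.2 (Or.inr List.mem_cons_self))

theorem mem_all_iff (C : SubCert R) (x : R) :
    x ∈ C.all o ↔ x = o.one ∨ ∃ a ∈ C.elems, a.1 = x := by
  have h : ∀ l : List (R × ℕ × ℕ),
      x ∈ (List.rec (motive := fun _ => List R) [] (fun a _ ih => a.1 :: ih) l) ↔ ∃ a ∈ l, a.1 = x := by
    intro l
    induction l with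
    | nil => simp
    | cons a t ih =>
      show x ∈ a.1 :: _ ↔ _
      rw [List.mem_cons, ih, List.exists_mem_cons_iff, @eq_comm _ a.1 x]
  rw [SubCert.all, List.mem_cons, h]

/-- What a checked subgroup certificate gives. -/
structure SubFacts (ls : List (Level R)) (C : SubCert R) (K : Subgroup G) : Prop where
  gens_ok : ∀ g ∈ C.gens, S.ok g.1 ∧ S.ok g.2 ∧ S.den g.2 = (S.den g.1)⁻¹ ∧ S.den g.1 ∈ K
  ok : ∀ a ∈ C.all o, S.ok a
  mem_iff : ∀ x, x ∈ K ↔ ∃ a ∈ C.all o, S.den a = x
  le : K ≤ S.grp ls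
  card : Nat.card K = (C.all o).length
  eq : K = Subgroup.closure (S.den '' {a | ∃ g ∈ C.gens, g.1 = a})

theorem SubCert.facts [Finite G] {ls : List (Level R)} (hc : checkChain o ls = true) (C : SubCert R)
    (h : C.check o ls = true) :
    SubFacts S ls C (Subgroup.closure (S.den '' {a | ∃ g ∈ C.gens, g.1 = a})) := by
  simp only [SubCert.check, Bool.and_eq_true, lall_iff] at h
  obtain ⟨⟨⟨hg, hb⟩, hnd⟩, hcl⟩ := h
  set K := Subgroup.closure (S.den '' {a | ∃ g ∈ C.gens, g.1 = a})
  have hgo : ∀ g ∈ C.gens, S.ok g.1 ∧ S.ok g.2 ∧ S.den g.2 = (S.den g.1)⁻¹ ∧ S.den g.1 ∈ K := fun g hgm => by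
    obtain ⟨a, b, c⟩ := S.okInv_sound (hg g hgm).1
    exact ⟨a, b, c, Subgroup.subset_closure ⟨g.1, ⟨g, hgm, rfl⟩, rfl⟩⟩
  have hbuild : ∀ (rest : List (R × ℕ × ℕ)) (acc : List R), buildOK o C.gens rest acc = true →
      (∀ a ∈ acc, S.ok a ∧ S.den a ∈ K) → ∀ e ∈ rest, S.ok e.1 ∧ S.den e.1 ∈ K := by
    intro rest
    induction rest with
    | nil => simp
    | cons e t ih =>
      intro acc h' hacc
      have h'' : (o.eqv e.1 (o.mul (nth (o.one, o.one) C.gens e.2.1).1 (nth o.one acc e.2.2)) &&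
          buildOK o C.gens t (acc ++ [e.1])) = true := h'
      rw [Bool.and_eq_true] at h''
      have h1 := nth_ok (fun r : R × R => S.ok r.1 ∧ S.den r.1 ∈ K) (o.one, o.one)
        ⟨S.ok_one, by rw [S.den_one]; exact K.one_mem⟩ C.gens (fun g hgm => ⟨(hgo g hgm).1, (hgo g hgm).2.2.2⟩) e.2.1
      have h2 := nth_ok (fun r : R => S.ok r ∧ S.den r ∈ K) o.one
        ⟨S.ok_one, by rw [S.den_one]; exact K.one_mem⟩ acc hacc e.2.2
      have he : S.ok e.1 ∧ S.den e.1 ∈ K := by
        rw [heq _ _ h''.1]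
        exact ⟨S.ok_mul h1.1 h2.1, by rw [S.den_mul h1.1 h2.1]; exact K.mul_mem h1.2 h2.2⟩
      intro a ha
      rcases List.mem_cons.1 ha with rfl | ha
      · exact he
      · refine ih (acc ++ [e.1]) h''.2 (fun b hb => ?_) a ha
        rcases List.mem_append.1 hb with hb | hb
        · exact hacc b hb
        · rw [List.mem_singleton] at hb; exact hb ▸ he
  have hok : ∀ a ∈ C.all o, S.ok a ∧ S.den a ∈ K := fun a ha => by
    rcases (mem_all_iff heq C a).1 ha with rfl | ⟨e, he, rfl⟩
    · exact ⟨S.ok_one, by rw [S.den_one]; exact K.one_mem⟩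
    · refine hbuild C.elems [o.one] hb ?_ e he
      simp [S.ok_one, S.den_one, K.one_mem]
  have hiff : ∀ x, x ∈ K ↔ ∃ a ∈ C.all o, S.den a = x := fun x => by
    refine ⟨fun hx => ?_, fun ⟨a, ha, e⟩ => e ▸ (hok a ha).2⟩
    have hx' : x ∈ Submonoid.closure (S.den '' {a | ∃ g ∈ C.gens, g.1 = a}) := by
      rw [← Subgroup.closure_toSubmonoid_of_finite]; exact hx
    induction hx' using Submonoid.closure_induction_left with
    | one => exact ⟨o.one, List.mem_cons_self, S.den_one⟩
    | mul_left y hy t ht ih =>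
      obtain ⟨a, ⟨g, hgm, rfl⟩, rfl⟩ := hy
      obtain ⟨e, he, rfl⟩ := ih (by rw [← Subgroup.mem_toSubmonoid, Subgroup.closure_toSubmonoid_of_finite]; exact ht)
      exact ⟨_, mem_of_memC heq (hcl g hgm e he), S.den_mul (hgo g hgm).1 (hok e he).1⟩
  refine ⟨hgo, fun a ha => (hok a ha).1, hiff, ?_, ?_, rfl⟩
  · refine (Subgroup.closure_le _).2 ?_
    rintro _ ⟨a, ⟨g, hgm, rfl⟩, rfl⟩
    exact ((checkChain_sound S hc).sift_iff _ (hgo g hgm).1).1 (hg g hgm).2
  · have hnodup : ((C.all o).map S.den).Nodup := by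
      have : ∀ l : List R, nodupC o l = true → (∀ a ∈ l, S.ok a) → (l.map S.den).Nodup := by
        intro l
        induction l with
        | nil => simp
        | cons a t ih =>
          intro h' ho
          have h'' : (!(memC o a t) && nodupC o t) = true := h'
          simp only [Bool.and_eq_true, Bool.not_eq_true', ← Bool.not_eq_true] at h''
          rw [List.map_cons, List.nodup_cons]
          refine ⟨fun hm => h''.1 ?_, ih h''.2 fun b hb => ho b (List.mem_cons_of_mem _ hb)⟩
          obtain ⟨b, hb, hbe⟩ := List.mem_map.1 hm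
          exact (lany_iff _ _).2 ⟨b, hb,
            (S.eqv_iff (ho a List.mem_cons_self) (ho b (List.mem_cons_of_mem _ hb))).2 hbe.symm⟩
      exact this _ hnd fun a ha => (hok a ha).1
    classical
    rw [Nat.card_congr (Equiv.subtypeEquivRight (q := fun x => x ∈ ((C.all o).map S.den).toFinset) fun x => by
      rw [hiff, List.mem_toFinset, List.mem_map]), Nat.card_eq_finsetCard,
      List.toFinset_card_of_nodup hnodup, List.length_map]

theorem runFusC_mem {ls : List (Level R)} (hc : checkChain o ls = true) {all : List R} {T K : Subgroup G}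
    (hall : ∀ a ∈ all, S.den a ∈ K)
    (hcl : ∀ x ∈ T, ∀ g ∈ S.grp ls, g * x * g⁻¹ ∈ K → g * x * g⁻¹ ∈ T) :
    ∀ (steps : List (R × R × List ℕ)) (known res : List R), runFusC o ls all steps known = some res →
      (∀ a ∈ known, S.ok a ∧ S.den a ∈ T) → ∀ a ∈ res, S.ok a ∧ S.den a ∈ T := by
  intro steps
  induction steps with
  | nil =>
    intro known res h hk
    obtain rfl : known = res := Option.some.inj h
    exact hk
  | cons s t ih =>
    intro known res h hk
    have h' : cond (o.okInv s.1 s.2.1 && sift o ls s.1 &&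
          memC o (o.mul (o.mul s.1 (wordVal o known s.2.2)) s.2.1) all)
        (runFusC o ls all t (known ++ [o.mul (o.mul s.1 (wordVal o known s.2.2)) s.2.1])) none = some res := h
    cases hb : (o.okInv s.1 s.2.1 && sift o ls s.1 &&
        memC o (o.mul (o.mul s.1 (wordVal o known s.2.2)) s.2.1) all) with
    | false => rw [hb] at h'; simp at h'
    | true =>
      rw [hb] at h'
      simp only [Bool.and_eq_true] at hb
      obtain ⟨⟨hi, hs⟩, hm⟩ := hb
      obtain ⟨og, ogi, hgi⟩ := S.okInv_sound hi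
      obtain ⟨ow, hw⟩ := wordVal_ok S heq hk s.2.2
      refine ih _ res h' fun a ha => ?_
      rcases List.mem_append.1 ha with ha | ha
      · exact hk a ha
      · rw [List.mem_singleton] at ha
        subst ha
        have e : S.den (o.mul (o.mul s.1 (wordVal o known s.2.2)) s.2.1) =
            S.den s.1 * S.den (wordVal o known s.2.2) * (S.den s.1)⁻¹ := by
          rw [S.den_mul (S.ok_mul og ow) ogi, S.den_mul og ow, hgi]
        refine ⟨S.ok_mul (S.ok_mul og ow) ogi, ?_⟩
        have hK := hall _ (mem_of_memC heq hm)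
        rw [e] at hK ⊢
        exact hcl _ hw _ (((checkChain_sound S hc).sift_iff _ og).1 hs) hK

theorem conj_mem_of_gens {K : Subgroup G} {s : Set G} {x : G} (h : ∀ g ∈ s, x * g * x⁻¹ ∈ K)
    {y : G} (hy : y ∈ Subgroup.closure s) : x * y * x⁻¹ ∈ K := by
  have : Subgroup.closure s ≤ K.comap (MulAut.conj x).toMonoidHom := (Subgroup.closure_le _).2 h
  exact this hy

/-- A checked certificate gives the simplicity criterion in the chain's group. -/
theorem cert_of_checkFusion [Finite G] {ls : List (Level R)} (hc : checkChain o ls = true) {n : ℕ}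
    (D : FusionCert R) (h : checkFusion o ls (2 ^ n) D = true)
    (hord : ∃ m, Odd m ∧ Nat.card (S.grp ls) = 2 ^ n * m) :
    ∃ (P R : Subgroup (S.grp ls)) (c : S.grp ls),
      FusionSys.SimpleCert 2 P R c ∧ IsPGroup 2 P ∧ ¬ 2 ∣ P.index := by
  have : Fact (Nat.Prime 2) := ⟨Nat.prime_two⟩
  simp only [checkFusion, Bool.and_eq_true, Bool.not_eq_true', lall_iff, Nat.beq_eq, Nat.ble_eq] at h
  obtain ⟨⟨⟨⟨⟨⟨⟨hP, hQ⟩, hk⟩, ⟨⟨hzm, hz1⟩, hzc⟩, hzg⟩, ⟨⟨⟨⟨⟨hci, hcs⟩, hc1⟩, hc3⟩, hcg⟩, hcol⟩, hN⟩,
    ⟨hQP, hPQ⟩, hCQ⟩, hels, hcv⟩, hfus⟩ := h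
  have FP := SubCert.facts S heq hc D.P hP
  have FQ := SubCert.facts S heq hc D.Q hQ
  set P := Subgroup.closure (S.den '' {a | ∃ g ∈ D.P.gens, g.1 = a})
  set Q := Subgroup.closure (S.den '' {a | ∃ g ∈ D.Q.gens, g.1 = a})
  set H := S.grp ls
  have M := checkChain_sound S hc
  have hPc : Nat.card P = 2 ^ n := by rw [FP.card, hk]
  have hzall := mem_of_memC heq hzm
  have oz : S.ok D.z := FP.ok _ hzall
  have hzP : S.den D.z ∈ P := (FP.mem_iff _).2 ⟨_, hzall, rfl⟩
  have hzne : S.den D.z ≠ 1 := fun e => by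
    rw [(S.eqv_iff oz S.ok_one).2 (by rw [e, S.den_one])] at hz1
    exact absurd hz1 (by simp)
  have hzcom : ∀ x ∈ P, x * S.den D.z = S.den D.z * x := by
    intro x hx
    induction hx using Subgroup.closure_induction with
    | mem x hx =>
      obtain ⟨a, ⟨g, hg, rfl⟩, rfl⟩ := hx
      have h1 := heq _ _ (hzg g hg)
      rw [← S.den_mul (FP.gens_ok g hg).1 oz, ← S.den_mul oz (FP.gens_ok g hg).1, h1]
    | one => simp
    | mul a b _ _ ha hb => rw [mul_assoc, hb, ← mul_assoc, ha, mul_assoc]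
    | inv a _ ha => rw [eq_comm, eq_inv_mul_iff_mul_eq, ← mul_assoc, ha, mul_inv_cancel_right]
  have hcen : ∀ x ∈ P, (∀ y ∈ P, y * x = x * y) → x ≠ 1 → x = S.den D.z := by
    intro x hx hxy hx1
    obtain ⟨a, ha, rfl⟩ := (FP.mem_iff x).1 hx
    have h1 := hzc a ha
    have hall : lall D.P.gens (fun g => o.eqv (o.mul g.1 a) (o.mul a g.1)) = true := (lall_iff _ _).2 fun g hg =>
      (S.eqv_iff (S.ok_mul (FP.gens_ok g hg).1 (FP.ok a ha)) (S.ok_mul (FP.ok a ha) (FP.gens_ok g hg).1)).2 (by
        rw [S.den_mul (FP.gens_ok g hg).1 (FP.ok a ha), S.den_mul (FP.ok a ha) (FP.gens_ok g hg).1]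
        exact hxy _ (FP.gens_ok g hg).2.2.2)
    rw [hall, cond_true, Bool.or_eq_true] at h1
    rcases h1 with h1 | h1
    · exact absurd (by rw [heq _ _ h1, S.den_one]) hx1
    · rw [heq _ _ h1]
  -- the normalizer
  obtain ⟨oc, oci, hcinv⟩ := S.okInv_sound hci
  have hcH : S.den D.c.1 ∈ H := (M.sift_iff _ oc).1 hcs
  have hcP : ∀ x ∈ P, S.den D.c.1 * x * (S.den D.c.1)⁻¹ ∈ P := fun x hx => by
    refine conj_mem_of_gens heq (fun y hy => ?_) hx
    obtain ⟨a, ⟨g, hg, rfl⟩, rfl⟩ := hy
    refine (FP.mem_iff _).2 ⟨_, mem_of_memC heq (hcg g hg), ?_⟩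
    rw [S.den_mul (S.ok_mul oc (FP.gens_ok g hg).1) oci, S.den_mul oc (FP.gens_ok g hg).1, hcinv]
  have ho3 : orderOf (S.den D.c.1) = 3 := by
    have : Fact (Nat.Prime 3) := ⟨Nat.prime_three⟩
    refine orderOf_eq_prime ?_ fun e => ?_
    · rw [← (powR_sound S oc 3).2, heq _ _ hc3, S.den_one]
    · rw [(S.eqv_iff oc S.ok_one).2 (by rw [e, S.den_one])] at hc1
      exact absurd hc1 (by simp)
  let N : Subgroup G :=
    { carrier := {x | x ∈ H ∧ x ∈ Subgroup.normalizer (P : Set G)}
      one_mem' := ⟨H.one_mem, one_mem _⟩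
      mul_mem' := fun ha hb => ⟨H.mul_mem ha.1 hb.1, mul_mem ha.2 hb.2⟩
      inv_mem' := fun ha => ⟨H.inv_mem ha.1, inv_mem ha.2⟩ }
  have hPN : P ⊔ Subgroup.zpowers (S.den D.c.1) ≤ N := sup_le
    (fun x hx => ⟨FP.le hx, Subgroup.le_normalizer hx⟩)
    (Subgroup.zpowers_le.2 ⟨hcH, FusionSys.mem_normalizer_of_maps hcP⟩)
  have hNz : ∀ x ∈ N, Commute x (S.den D.z) := by
    intro x hx
    have hm : x * S.den D.z * x⁻¹ ∈ P := (Subgroup.mem_normalizer_iff.1 hx.2 _).1 hzP
    refine mul_inv_eq_iff_eq_mul.1 (hcen _ hm (fun y hy => ?_) fun e => hzne ?_)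
    · have hy' : x⁻¹ * y * x ∈ P := (Subgroup.mem_normalizer_iff.1 hx.2 _).2 (by
        rwa [show x * (x⁻¹ * y * x) * x⁻¹ = y by group])
      calc y * (x * S.den D.z * x⁻¹) = x * ((x⁻¹ * y * x) * S.den D.z) * x⁻¹ := by group
        _ = x * (S.den D.z * (x⁻¹ * y * x)) * x⁻¹ := by rw [hzcom _ hy']
        _ = _ := by group
    · calc S.den D.z = x⁻¹ * (x * S.den D.z * x⁻¹) * x := by group
        _ = 1 := by rw [e]; group
  have hzH : S.den D.z ∈ H := FP.le hzP
  have hspec := centEnum2_spec S hc oz hzH hc le_rfl [] [] (by simp)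
    (by rw [show wden S ([] : List R) = 1 from rfl]; exact one_mem _) (by simp)
  set L := (centEnum2 o (basesOf ls) D.z ls [] []).filter (normW o D.col (basesOf ls) D.P.gens) with hL
  have hwok : ∀ w ∈ centEnum2 o (basesOf ls) D.z ls [] [], ∀ a ∈ w, S.ok a := by
    have : ∀ (l : List (Level R)), checkChain o l = true → ∀ pre done, (∀ a ∈ pre, S.ok a) →
        ∀ w ∈ centEnum2 o (basesOf ls) D.z l pre done, ∀ a ∈ w, S.ok a := by
      intro l
      induction l with
      | nil =>
        intro _ pre done hpre w hw a ha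
        have hw' : w ∈ cond (lall (basesOf ls) (fun b =>
          Nat.beq (imgW o pre (o.img D.z b)) (o.img D.z (imgW o pre b)))) [pre] [] := hw
        cases hb : lall (basesOf ls) (fun b =>
          Nat.beq (imgW o pre (o.img D.z b)) (o.img D.z (imgW o pre b))) with
        | false => rw [hb] at hw'; simp at hw'
        | true => rw [hb, cond_true, List.mem_singleton] at hw'; exact hpre a (hw' ▸ ha)
      | cons v t ih =>
        intro hv pre done hpre w hw
        have hw' : w ∈ lflat v.orb (fun e => cond (pairPrune o D.z (v.base :: done) (pre ++ [e.u]))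
          (centEnum2 o (basesOf ls) D.z t (pre ++ [e.u]) (v.base :: done)) []) := hw
        rw [lflat_eq, List.mem_flatMap] at hw'
        obtain ⟨e, he, hw''⟩ := hw'
        cases hb : pairPrune o D.z (v.base :: done) (pre ++ [e.u]) with
        | false => rw [hb] at hw''; simp at hw''
        | true =>
          rw [hb, cond_true] at hw''
          refine ih (checkChain_tail hv) _ _ (fun a ha => ?_) w hw''
          rcases List.mem_append.1 ha with ha | ha
          · exact hpre a ha
          · rw [List.mem_singleton] at ha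
            exact ha ▸ ((checkChain_facts S hv).orb_ok e he).1
    exact this ls hc [] [] (by simp)
  have hcount : Nat.card N ≤ 3 * 2 ^ n := by
    classical
    refine le_trans ?_ ((List.toFinset_card_le (L.map (wden S))).trans (le_of_eq_of_le (List.length_map _) hN))
    rw [← Nat.card_eq_finsetCard]
    refine Nat.card_le_card_of_injective (fun x : N => (⟨x.1, ?_⟩ : ((L.map (wden S)).toFinset : Set G)))
      fun a b e => Subtype.ext (congrArg (fun y : ((L.map (wden S)).toFinset : Set G) => y.1) e)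
    obtain ⟨x, hx⟩ := x
    obtain ⟨w, hw, hwx⟩ := List.mem_map.1 ((hspec.2 x).2 ⟨x, hx.1, by simp [wden], hNz x hx⟩)
    show x ∈ (L.map (wden S)).toFinset
    refine List.mem_toFinset.2 (List.mem_map.2 ⟨w, List.mem_filter.2 ⟨hw, (lall_iff _ _).2 fun g hg => ?_⟩, hwx⟩)
    have og := (FP.gens_ok g hg).1
    obtain ⟨e, he, hex⟩ := (FP.mem_iff _).1 ((Subgroup.mem_normalizer_iff.1 hx.2 _).1 (FP.gens_ok g hg).2.2.2)
    refine (lall_iff _ _).2 fun b _ => ?_
    rw [imgW_eq S w (hwok w hw), imgW_eq S w (hwok w hw), S.img_eq og, hwx, ← S.act_mul,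
      show x * S.den g.1 = x * S.den g.1 * x⁻¹ * x by group, ← hex, S.act_mul, ← S.img_eq (FP.ok e he),
      Bool.or_eq_true, Nat.ble_eq, Nat.beq_eq]
    rcases Nat.lt_or_ge (S.act x b) D.col.N with hlt | hge
    · simp only [PointColour.invOK, lall_iff, allN_iff, Nat.beq_eq] at hcol
      exact Or.inr (hcol e he _ hlt)
    · exact Or.inl hge
  have hle : N ≤ P ⊔ Subgroup.zpowers (S.den D.c.1) := by
    refine (Subgroup.eq_of_le_of_card_ge hPN (le_trans hcount (Nat.le_of_dvd Nat.card_pos ?_))).ge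
    refine Nat.Coprime.mul_dvd_of_dvd_of_dvd ((Nat.coprime_primes Nat.prime_three Nat.prime_two).2 (by decide) |>.pow_right n) ?_ ?_
    · rw [← ho3, ← Nat.card_zpowers]; exact Subgroup.card_dvd_of_le le_sup_right
    · rw [← hPc]; exact Subgroup.card_dvd_of_le le_sup_left
  -- back in the chain's group
  have hP2 : IsPGroup 2 (P.subgroupOf H) :=
    IsPGroup.of_card (n := n) (by rw [Nat.card_congr (Subgroup.subgroupOfEquivOfLe FP.le).toEquiv, hPc])
  have hidx : ¬ 2 ∣ (P.subgroupOf H).index := by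
    obtain ⟨m, hm, hHc⟩ := hord
    have h1 := Subgroup.card_mul_index (P.subgroupOf H)
    rw [Nat.card_congr (Subgroup.subgroupOfEquivOfLe FP.le).toEquiv, hPc, hHc] at h1
    rw [Nat.eq_of_mul_eq_mul_left (Nat.two_pow_pos n) h1]
    obtain ⟨j, rfl⟩ := hm
    omega
  refine ⟨P.subgroupOf H, Q.subgroupOf H, ⟨_, hcH⟩, ?_, hP2, hidx⟩
  have hQleP : Q ≤ P := (Subgroup.closure_le _).2 (by
    rintro _ ⟨a, ⟨r, hr, rfl⟩, rfl⟩
    exact (FP.mem_iff _).2 ⟨_, mem_of_memC heq (hQP r hr), rfl⟩)
  have hnormQ : ∀ x xi : R, S.ok x → S.ok xi → S.den xi = (S.den x)⁻¹ →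
      (∀ r ∈ D.Q.gens, memC o (o.mul (o.mul x r.1) xi) (D.Q.all o) = true) →
      ∀ y ∈ Q, S.den x * y * (S.den x)⁻¹ ∈ Q := by
    intro x xi ox oxi hxi hx y hy
    refine conj_mem_of_gens heq (fun u hu => ?_) hy
    obtain ⟨a, ⟨r, hr, rfl⟩, rfl⟩ := hu
    refine (FQ.mem_iff _).2 ⟨_, mem_of_memC heq (hx r hr), ?_⟩
    rw [S.den_mul (S.ok_mul ox (FQ.gens_ok r hr).1) oxi, S.den_mul ox (FQ.gens_ok r hr).1, hxi]
  constructor
  · intro e
    have : (⟨_, hzH⟩ : H) ∈ P.subgroupOf H := hzP
    rw [e, Subgroup.mem_bot] at this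
    exact hzne (congrArg Subtype.val this)
  · intro x hx
    have hxN : (x : G) ∈ N := ⟨x.2, FusionSys.mem_normalizer_of_maps fun y hy => hx ⟨y, FP.le hy⟩ hy⟩
    have h1 := hle hxN
    have h2 : (P ⊔ Subgroup.zpowers (S.den D.c.1)).subgroupOf H =
        P.subgroupOf H ⊔ Subgroup.zpowers (⟨_, hcH⟩ : H) := by
      rw [Subgroup.subgroupOf_sup FP.le (Subgroup.zpowers_le.2 hcH)]
      congr 1
      apply Subgroup.map_injective H.subtype_injective
      rw [Subgroup.map_subgroupOf_eq_of_le (Subgroup.zpowers_le.2 hcH), MonoidHom.map_zpowers]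
      rfl
    exact h2 ▸ h1
  · exact fun x hx => hcP x hx
  · exact fun x hx => hQleP hx
  · intro x hx r hr
    show (x : G) * (r : G) * (x : G)⁻¹ ∈ Q
    have hle' : P ≤ Subgroup.normalizer (Q : Set G) := (Subgroup.closure_le _).2 (by
      rintro _ ⟨a, ⟨g, hg, rfl⟩, rfl⟩
      exact FusionSys.mem_normalizer_of_maps (hnormQ g.1 g.2 (FP.gens_ok g hg).1 (FP.gens_ok g hg).2.1
        (FP.gens_ok g hg).2.2.1 (hPQ g hg)))
    exact (Subgroup.mem_normalizer_iff.1 (hle' hx) _).1 hr
  · intro x hx hcom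
    obtain ⟨a, ha, hax⟩ := (FP.mem_iff _).1 hx
    have h1 := hCQ a ha
    have hall : lall D.Q.gens (fun r => o.eqv (o.mul r.1 a) (o.mul a r.1)) = true := (lall_iff _ _).2 fun r hr =>
      (S.eqv_iff (S.ok_mul (FQ.gens_ok r hr).1 (FP.ok a ha)) (S.ok_mul (FP.ok a ha) (FQ.gens_ok r hr).1)).2 (by
        rw [S.den_mul (FQ.gens_ok r hr).1 (FP.ok a ha), S.den_mul (FP.ok a ha) (FQ.gens_ok r hr).1, hax]
        exact congrArg Subtype.val (hcom ⟨_, FQ.le (FQ.gens_ok r hr).2.2.2⟩ (FQ.gens_ok r hr).2.2.2))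
    rw [hall, cond_true] at h1
    exact (FQ.mem_iff _).2 ⟨a, mem_of_memC heq h1, hax⟩
  · set C := Subgroup.closure {g : H | (∀ r ∈ Q.subgroupOf H, g * r * g⁻¹ ∈ Q.subgroupOf H) ∧
      ∃ k : ℕ, orderOf g = 2 ^ k}
    have hprod : ∀ l : List (R × R × ℕ), (∀ x ∈ l, x ∈ D.els) →
        S.ok (List.rec (motive := fun _ => R) o.one (fun x _ ih => o.mul x.1 ih) l) ∧
        S.den (List.rec (motive := fun _ => R) o.one (fun x _ ih => o.mul x.1 ih) l) ∈ C.map H.subtype := by
      intro l
      induction l with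
      | nil => intro _; exact ⟨S.ok_one, by rw [S.den_one]; exact one_mem _⟩
      | cons x t ih =>
        intro hl
        obtain ⟨it1, it2⟩ := ih fun y hy => hl y (List.mem_cons_of_mem _ hy)
        obtain ⟨⟨⟨hxi, hxs⟩, hxp⟩, hxQ⟩ := hels x (hl x List.mem_cons_self)
        obtain ⟨ox, oxi, hxinv⟩ := S.okInv_sound hxi
        have hxH : S.den x.1 ∈ H := (M.sift_iff _ ox).1 hxs
        refine ⟨S.ok_mul ox it1, ?_⟩
        show S.den (o.mul x.1 _) ∈ _
        rw [S.den_mul ox it1]
        refine mul_mem ⟨⟨_, hxH⟩, Subgroup.subset_closure ⟨fun r hr => hnormQ _ _ ox oxi hxinv hxQ r hr, ?_⟩, rfl⟩ it2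
        obtain ⟨j, -, hj⟩ := (Nat.dvd_prime_pow Nat.prime_two).1 (orderOf_dvd_of_pow_eq_one (x := (⟨_, hxH⟩ : H))
          (n := 2 ^ x.2.2) (Subtype.ext (by
            show S.den x.1 ^ (2 ^ x.2.2) = 1
            rw [← (powR_sound S ox _).2, heq _ _ hxp, S.den_one])))
        exact ⟨j, hj⟩
    obtain ⟨⟨u, huH⟩, hu, he⟩ := (hprod D.els fun x hx => hx).2
    have : (⟨u, huH⟩ : H) = ⟨_, hcH⟩ := Subtype.ext (he.trans (congrArg S.den (heq _ _ hcv)).symm)
    exact this ▸ hu
  · intro U hU hcl hcentral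
    obtain ⟨v, hv, hv1, hvc⟩ := hcentral
    have hvz : (v : G) = S.den D.z := hcen _ (hU hv)
      (fun y hy => congrArg Subtype.val (hvc ⟨y, FP.le hy⟩ hy)) fun e => hv1 (Subtype.ext e)
    refine le_antisymm hU ?_
    cases hrun : runFusC o ls (D.P.all o) D.fus [D.z] with
    | none => rw [hrun] at hfus; simp at hfus
    | some known =>
      rw [hrun] at hfus
      have hk' := runFusC_mem S heq hc (all := D.P.all o) (T := U.map H.subtype) (K := P)
        (fun a ha => (FP.mem_iff _).2 ⟨a, ha, rfl⟩)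
        (by
          rintro _ ⟨x, hx, rfl⟩ g hg hgx
          exact ⟨_, hcl x hx ⟨g, hg⟩ hgx, rfl⟩)
        D.fus [D.z] known hrun (by
          intro a ha
          rw [List.mem_singleton] at ha
          subst ha
          exact ⟨oz, v, hv, hvz⟩)
      have hgen : P ≤ U.map H.subtype := (Subgroup.closure_le _).2 (by
        rintro _ ⟨a, ⟨g, hg, rfl⟩, rfl⟩
        obtain ⟨w, -, hw⟩ := (lany_iff _ _).1 ((lall_iff _ _).1 hfus g hg)
        rw [heq _ _ hw]
        exact (wordVal_ok S heq hk' w).2)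
      intro x hx
      obtain ⟨y, hy, hyx⟩ := hgen hx
      exact H.subtype_injective hyx ▸ hy

end Sound

end Cfsg.Agent.Compute
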