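import Mathlib

/-!
Simplicity from prime-order elements: if `x` has prime order `p`, `p² ∤ |G|` and the normal closure
of `x` is `G`, then every proper normal subgroup has order prime to `p` and congruent mod `p` to
the number of its elements commuting with `x`.
-/

set_option autoImplicit false

namespace Cfsg.Agent.Compute

open scoped Pointwise

variable {G : Type*} [Group G] [Finite G]

theorem mem_of_normal_of_dvd {p : ℕ} [Fact p.Prime] {x : G} (hx : orderOf x = p)
    (hp2 : ¬ p ^ 2 ∣ Nat.card G) (N : Subgroup G) [N.Normal] (hN : p ∣ Nat.card N) : x ∈ N := by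
  obtain ⟨y, hy⟩ := exists_prime_orderOf_dvd_card' (G := N) p hN
  have hy' : orderOf (y : G) = p := by rw [Subgroup.orderOf_coe]; exact hy
  have hpow : p ^ (Nat.card G).factorization p = p := by
    have h1 : (Nat.card G).factorization p = 1 := by
      have hd : p ∣ Nat.card G := hx ▸ orderOf_dvd_natCard x
      have := (Nat.Prime.pow_dvd_iff_le_factorization Fact.out Nat.card_pos.ne').not.1 hp2
      have := (Nat.Prime.pow_dvd_iff_le_factorization Fact.out Nat.card_pos.ne').1
        (by simpa using hd : p ^ 1 ∣ Nat.card G)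
      omega
    rw [h1, pow_one]
  let P : Sylow p G := Sylow.ofCard (Subgroup.zpowers x) (by rw [Nat.card_zpowers, hx, hpow])
  let Q : Sylow p G := Sylow.ofCard (Subgroup.zpowers (y : G))
    (by rw [Nat.card_zpowers, hy', hpow])
  obtain ⟨g, hg⟩ := MulAction.exists_smul_eq G Q P
  have hxP : x ∈ (P : Subgroup G) := Subgroup.mem_zpowers x
  rw [← hg] at hxP
  change x ∈ MulAut.conj g • (Q : Subgroup G) at hxP
  obtain ⟨z, hz, rfl⟩ := hxP
  obtain ⟨k, rfl⟩ := Subgroup.mem_zpowers_iff.1 hz
  exact Subgroup.Normal.conj_mem ‹N.Normal› _ (zpow_mem y.2 k) g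

theorem card_modEq_card_centralizer {p : ℕ} [Fact p.Prime] {x : G} (hx : orderOf x = p)
    (N : Subgroup G) [N.Normal] :
    Nat.card N ≡ Nat.card ↥(N ⊓ Subgroup.centralizer {x}) [MOD p] := by
  let C : Subgroup G := Subgroup.zpowers x
  let φ : C →* MulAut N := (MulAut.conjNormal (H := N)).comp C.subtype
  let _ : MulAction C N := MulAction.compHom N φ
  have hP : IsPGroup p C := IsPGroup.of_card (n := 1) (by rw [Nat.card_zpowers, hx, pow_one])
  have key := hP.card_modEq_card_fixedPoints N
  suffices h : Nat.card (MulAction.fixedPoints C N) =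
      Nat.card ↥(N ⊓ Subgroup.centralizer {x}) by rwa [h] at key
  refine Nat.card_congr
    { toFun := fun a => ⟨(a.1 : G), a.1.2, ?_⟩
      invFun := fun a => ⟨⟨a.1, a.2.1⟩, ?_⟩
      left_inv := fun a => rfl
      right_inv := fun a => rfl }
  · refine Subgroup.mem_centralizer_singleton_iff.2 ?_
    have h := congrArg Subtype.val (a.2 ⟨x, Subgroup.mem_zpowers x⟩)
    change x * (a.1 : G) * x⁻¹ = (a.1 : G) at h
    exact (mul_inv_eq_iff_eq_mul.1 h).symm
  · rintro ⟨c, hc⟩
    obtain ⟨k, rfl⟩ := Subgroup.mem_zpowers_iff.1 hc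
    apply Subtype.ext
    show x ^ k * a.1 * (x ^ k)⁻¹ = a.1
    have hcomm : Commute x a.1 := (Subgroup.mem_centralizer_singleton_iff.1 a.2.2).symm
    rw [(hcomm.zpow_left k).eq, mul_inv_cancel_right]

/-- A proper normal subgroup avoids `p` and its order is constrained modulo `p`. -/
theorem proper_normal_card {p c : ℕ} [Fact p.Prime] {x : G} (hx : orderOf x = p)
    (hp2 : ¬ p ^ 2 ∣ Nat.card G) (hgen : Subgroup.normalClosure ({x} : Set G) = ⊤)
    (hc : Nat.card (Subgroup.centralizer ({x} : Set G)) = c)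
    (N : Subgroup G) [N.Normal] (hN : N ≠ ⊤) :
    ¬ p ∣ Nat.card N ∧ ∃ e, e ∣ c ∧ e ∣ Nat.card N ∧ Nat.card N ≡ e [MOD p] := by
  refine ⟨fun h => hN ?_, _, ?_, ?_, card_modEq_card_centralizer hx N⟩
  · rw [eq_top_iff, ← hgen]
    exact Subgroup.normalClosure_le_normal
      (Set.singleton_subset_iff.2 (mem_of_normal_of_dvd hx hp2 N h))
  · exact hc ▸ Subgroup.card_dvd_of_le inf_le_right
  · exact Subgroup.card_dvd_of_le inf_le_left

/-- If the centraliser of `x` is `⟨x⟩`, a proper normal subgroup has order `1` mod `p`. -/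
theorem proper_normal_card_self {p : ℕ} [Fact p.Prime] {x : G} (hx : orderOf x = p)
    (hp2 : ¬ p ^ 2 ∣ Nat.card G) (hgen : Subgroup.normalClosure ({x} : Set G) = ⊤)
    (hc : Nat.card (Subgroup.centralizer ({x} : Set G)) = p)
    (N : Subgroup G) [N.Normal] (hN : N ≠ ⊤) :
    ¬ p ∣ Nat.card N ∧ Nat.card N % p = 1 := by
  obtain ⟨h, e, he, hen, hmod⟩ := proper_normal_card hx hp2 hgen hc N hN
  rcases (Nat.dvd_prime Fact.out).1 he with rfl | rfl
  · exact ⟨h, Eq.trans hmod (Nat.mod_eq_of_lt (Nat.Prime.one_lt Fact.out))⟩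
  · exact absurd hen h

/-- `G` is simple if no divisor of its order other than `1` is admissible. -/
theorem isSimpleGroup_of_normal_card (n : ℕ) (hn : Nat.card G = n) (h1 : 1 < n) (P : ℕ → Prop)
    (hP : ∀ N : Subgroup G, N.Normal → N ≠ ⊤ → P (Nat.card N))
    (hd : ∀ d, d ∣ n → P d → d = 1) : IsSimpleGroup G := by
  have : Nontrivial G := Finite.one_lt_card_iff_nontrivial.1 (hn ▸ h1)
  refine ⟨fun N hN => ?_⟩
  by_cases h : N = ⊤
  · exact Or.inr h
  · exact Or.inl (N.eq_bot_of_card_eq (hd _ (hn ▸ N.card_subgroup_dvd_card) (hP N hN h)))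

omit [Finite G] in
/-- A subgroup generated by conjugates of `x` has normal closure of `x` on top. -/
theorem normalClosure_eq_top_of_conj {x : G} {s : Set G} (hs : Subgroup.closure s = ⊤)
    (h : ∀ a ∈ s, IsConj x a) : Subgroup.normalClosure ({x} : Set G) = ⊤ := by
  rw [eq_top_iff, ← hs, Subgroup.closure_le]
  intro a ha
  exact Subgroup.conjugatesOfSet_subset_normalClosure
    (Group.mem_conjugatesOfSet_iff.2 ⟨x, rfl, h a ha⟩)

omit [Finite G] in
/-- Explicit group isomorphism from a simple group onto the image of a homomorphism. -/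
theorem nonempty_equiv_range_of_simple {H : Type*} [Group H] [IsSimpleGroup G] (f : G →* H)
    (h : ∃ g, f g ≠ 1) : Nonempty (G ≃* f.range) := by
  refine ⟨MonoidHom.ofInjective ?_⟩
  rw [← MonoidHom.ker_eq_bot_iff]
  rcases IsSimpleGroup.eq_bot_or_eq_top_of_normal f.ker inferInstance with hk | hk
  · exact hk
  · obtain ⟨g, hg⟩ := h
    exact absurd (MonoidHom.mem_ker.1 (hk ▸ Subgroup.mem_top g)) hg

end Cfsg.Agent.Compute
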