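import Cfsg.Agent.Compute.PermRep

/-!
Invertible `n × n` matrices over `ZMod q` packed into one natural number (`w` bits per entry, entry
`(i, j)` at index `i * n + j`), as an instance of `Cfsg.Agent.Compute.Ops` with trivial action.
-/

set_option autoImplicit false

namespace Cfsg.Agent.Compute

noncomputable def sumN (n : ℕ) (f : ℕ → ℕ) : ℕ :=
  Nat.rec 0 (fun i acc => Nat.add (f i) acc) n

theorem sumN_eq (n : ℕ) (f : ℕ → ℕ) : sumN n f = ∑ i : Fin n, f i := by
  rw [← Finset.sum_range]
  induction n with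
  | zero => rfl
  | succ k ih =>
    rw [show sumN (k + 1) f = f k + sumN k f from rfl, ih, Finset.sum_range_succ, add_comm]

noncomputable def oneMat (w n : ℕ) : ℕ :=
  packP w (fun k => cond (Nat.beq (k / n) (k % n)) 1 0) (n * n)

/-- Row `i` of a product before reduction, packed: a combination of the packed rows of `b`. -/
noncomputable def rowAcc (w n a b i : ℕ) : ℕ :=
  sumN n (fun l => Nat.mul (getP w a (Nat.add (Nat.mul i n) l)) (getP (Nat.mul w n) b l))

/-- Row-wise product; correct when `n * (q - 1) ^ 2 < 2 ^ w`. -/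
noncomputable def mulMat (w n q a b : ℕ) : ℕ :=
  packP (Nat.mul w n) (fun i => packP w (fun j => Nat.mod (getP w (rowAcc w n a b i) j) q) n) n

theorem packP_getP (w a : ℕ) : ∀ n, packP w (fun i => getP w a i) n = a % 2 ^ (w * n) := by
  intro n
  induction n with
  | zero => simp [packP, Nat.mod_one]
  | succ k ih =>
    rw [packP_succ, ih, getP_eq, Nat.mul_succ, pow_add, Nat.mod_mul, Nat.mul_comm (2 ^ (w * k))]

theorem getP_shift (w a c i : ℕ) : getP w (a / 2 ^ (w * c)) i = getP w a (c + i) := by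
  rw [getP_eq, getP_eq, Nat.div_div_eq_div_mul, ← pow_add, ← Nat.mul_add]

theorem getP_row (w n b l : ℕ) :
    getP (w * n) b l = packP w (fun j => getP w b (l * n + j)) n := by
  rw [packP_congr w n (g := fun j => getP w (b / 2 ^ (w * (l * n))) j)
    (fun j _ => (getP_shift w b (l * n) j).symm), packP_getP, getP_eq]
  congr 3
  ring

theorem packP_linear (w : ℕ) (f : ℕ → ℕ → ℕ) (c : ℕ → ℕ) (m : ℕ) : ∀ n,
    (∑ l : Fin m, c l * packP w (f l) n) = packP w (fun j => ∑ l : Fin m, c l * f l j) n := by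
  intro n
  induction n with
  | zero => simp [packP]
  | succ k ih =>
    rw [packP_succ, ← ih, Finset.sum_mul, ← Finset.sum_add_distrib]
    refine Finset.sum_congr rfl fun l _ => ?_
    rw [packP_succ]; ring

theorem rowAcc_eq (w n a b i : ℕ) : rowAcc w n a b i =
    packP w (fun j => ∑ l : Fin n, getP w a (i * n + l) * getP w b (l * n + j)) n := by
  show sumN n (fun l => getP w a (i * n + l) * getP (w * n) b l) = _
  rw [sumN_eq, ← packP_linear w (fun l j => getP w b (l * n + j)) (fun l => getP w a (i * n + l))]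
  exact Finset.sum_congr rfl fun l _ => by rw [getP_row]

theorem packP_append (w : ℕ) (f : ℕ → ℕ) (a : ℕ) : ∀ b,
    packP w f (a + b) = packP w f a + packP w (fun i => f (a + i)) b * 2 ^ (w * a) := by
  intro b
  induction b with
  | zero => simp [packP]
  | succ k ih => rw [← Nat.add_assoc, packP_succ, ih, packP_succ, Nat.mul_add, pow_add]; ring

theorem packP_nest (w n : ℕ) (g : ℕ → ℕ → ℕ) : ∀ m,
    packP (w * n) (fun i => packP w (g i) n) m = packP w (fun k => g (k / n) (k % n)) (m * n) := by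
  intro m
  induction m with
  | zero => simp [packP]
  | succ k ih =>
    rw [packP_succ, ih, Nat.succ_mul, packP_append]
    congr 1
    rw [show w * n * k = w * (k * n) by ring]
    congr 1
    refine packP_congr w n fun j hj => ?_
    have hn : 0 < n := by omega
    rw [Nat.add_comm (k * n), Nat.add_mul_div_right _ _ hn, Nat.div_eq_of_lt hj, Nat.zero_add,
      Nat.add_mul_mod_self_right, Nat.mod_eq_of_lt hj]

noncomputable def validMat (w n q a : ℕ) : Bool :=
  allN (n * n) (fun k => Nat.ble (getP w a k + 1) q) &&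
    Nat.beq (packP w (fun k => getP w a k) (n * n)) a

noncomputable def invMat (w n q a b : ℕ) : Bool :=
  validMat w n q a && validMat w n q b && Nat.beq (mulMat w n q a b) (oneMat w n) &&
    Nat.beq (mulMat w n q b a) (oneMat w n)

/-- Packed invertible matrices, acting trivially on points. -/
noncomputable def matOps (w n q : ℕ) : Ops ℕ where
  one := oneMat w n
  mul := mulMat w n q
  eqv := Nat.beq
  img := fun _ p => p
  okInv := invMat w n q

noncomputable def toMat (w n q a : ℕ) : Matrix (Fin n) (Fin n) (ZMod q) :=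
  fun i j => (getP w a (i * n + j) : ZMod q)

/-- Canonical packed matrix. -/
def MatCanon (w n q a : ℕ) : Prop :=
  (∀ k < n * n, getP w a k < q) ∧ packP w (fun k => getP w a k) (n * n) = a

open Classical in
/-- The invertible matrix encoded by a packed number. -/
noncomputable def matDen (w n q a : ℕ) : GL (Fin n) (ZMod q) :=
  if h : IsUnit (toMat w n q a) then h.unit else 1

/-- Well-formed packed invertible matrix. -/
def MatOK (w n q a : ℕ) : Prop := MatCanon w n q a ∧ IsUnit (toMat w n q a)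

theorem matDen_coe {w n q a : ℕ} (h : MatOK w n q a) :
    (matDen w n q a : Matrix (Fin n) (Fin n) (ZMod q)) = toMat w n q a := by
  rw [matDen, dif_pos h.2, IsUnit.unit_spec]

theorem idx_lt {n : ℕ} (i j : Fin n) : (i : ℕ) * n + j < n * n :=
  calc (i : ℕ) * n + j < i * n + n := by omega
    _ = (i + 1) * n := (Nat.succ_mul _ _).symm
    _ ≤ n * n := Nat.mul_le_mul_right _ i.2

theorem idx_div {n : ℕ} (i j : Fin n) :
    ((i : ℕ) * n + j) / n = i ∧ ((i : ℕ) * n + j) % n = j := by
  have hn : 0 < n := i.pos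
  constructor
  · rw [Nat.add_comm, Nat.add_mul_div_right _ _ hn, Nat.div_eq_of_lt j.2, Nat.zero_add]
  · rw [Nat.mul_add_mod_self_right, Nat.mod_eq_of_lt j.2]

theorem matCanon_pack {w n q : ℕ} (hq : q ≤ 2 ^ w) (f : ℕ → ℕ) (hf : ∀ k < n * n, f k < q) :
    MatCanon w n q (packP w f (n * n)) ∧
      ∀ i j : Fin n, toMat w n q (packP w f (n * n)) i j = (f (i * n + j) : ZMod q) := by
  have hg : ∀ k < n * n, getP w (packP w f (n * n)) k = f k :=
    getP_packP w f _ fun k hk => lt_of_lt_of_le (hf k hk) hq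
  exact ⟨⟨fun k hk => by rw [hg k hk]; exact hf k hk, packP_congr w _ hg⟩,
    fun i j => by rw [toMat, hg _ (idx_lt i j)]⟩

theorem matCanon_mul {w n q : ℕ} (hq : q ≤ 2 ^ w) (hq0 : 0 < q) (hnq : n * (q - 1) ^ 2 < 2 ^ w)
    {a b : ℕ} (ha : ∀ k < n * n, getP w a k < q) (hb : ∀ k < n * n, getP w b k < q) :
    MatCanon w n q (mulMat w n q a b) ∧
      toMat w n q (mulMat w n q a b) = toMat w n q a * toMat w n q b := by
  have hm : mulMat w n q a b =
      packP w (fun k => getP w (rowAcc w n a b (k / n)) (k % n) % q) (n * n) :=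
    packP_nest w n (fun i j => getP w (rowAcc w n a b i) j % q) n
  obtain ⟨h1, h2⟩ := matCanon_pack (w := w) (n := n) hq
    (fun k => getP w (rowAcc w n a b (k / n)) (k % n) % q) fun k _ => Nat.mod_lt _ hq0
  rw [← hm] at h1 h2
  refine ⟨h1, Matrix.ext fun i j => ?_⟩
  have hget : getP w (rowAcc w n a b i) j =
      ∑ l : Fin n, getP w a (i * n + l) * getP w b (l * n + j) := by
    rw [rowAcc_eq]
    refine getP_packP w _ n (fun j' hj' => lt_of_le_of_lt ?_ hnq) j j.2
    calc (∑ l : Fin n, getP w a (i * n + l) * getP w b (l * n + j'))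
        ≤ ∑ _l : Fin n, (q - 1) ^ 2 := Finset.sum_le_sum fun l _ => by
          have := ha _ (idx_lt i l)
          have := hb _ (idx_lt l ⟨j', hj'⟩)
          rw [sq]; exact Nat.mul_le_mul (by omega) (by simp at this; omega)
      _ = n * (q - 1) ^ 2 := by simp
  rw [h2, (idx_div i j).1, (idx_div i j).2, hget, ZMod.natCast_mod, Nat.cast_sum, Matrix.mul_apply]
  exact Finset.sum_congr rfl fun l _ => by rw [Nat.cast_mul]; rfl

theorem matCanon_one {w n q : ℕ} (hq : q ≤ 2 ^ w) (hq1 : 1 < q) :
    MatCanon w n q (oneMat w n) ∧ toMat w n q (oneMat w n) = 1 := by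
  obtain ⟨h1, h2⟩ := matCanon_pack (w := w) (n := n) hq
    (fun k => cond (Nat.beq (k / n) (k % n)) 1 0) fun k _ => by
      cases Nat.beq (k / n) (k % n) <;> simp <;> omega
  refine ⟨h1, Matrix.ext fun i j => ?_⟩
  show toMat w n q (packP w _ (n * n)) i j = _
  rw [h2, (idx_div i j).1, (idx_div i j).2]
  by_cases hij : i = j
  · subst hij; simp
  · have : Nat.beq (i : ℕ) j = false := by
      rw [Bool.eq_false_iff]; intro h; exact hij (Fin.ext (Nat.eq_of_beq_eq_true h))
    simp [this, hij]

theorem matCanon_ext {w n q a b : ℕ} (ha : MatCanon w n q a) (hb : MatCanon w n q b)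
    (h : toMat w n q a = toMat w n q b) : a = b := by
  rw [← ha.2, ← hb.2]
  refine packP_congr w _ fun k hk => ?_
  have hn : 0 < n := Nat.pos_of_ne_zero fun e => by subst e; simp at hk
  have hk' : k / n < n := (Nat.div_lt_iff_lt_mul hn).2 hk
  have e := congrFun (congrFun h ⟨k / n, hk'⟩) ⟨k % n, Nat.mod_lt _ hn⟩
  simp only [toMat] at e
  rw [show k / n * n + k % n = k by rw [Nat.mul_comm]; exact Nat.div_add_mod k n] at e
  rw [ZMod.natCast_eq_natCast_iff', Nat.mod_eq_of_lt (ha.1 k hk), Nat.mod_eq_of_lt (hb.1 k hk)]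
    at e
  exact e

theorem matOK_one {w n q : ℕ} (hq : q ≤ 2 ^ w) (hq1 : 1 < q) : MatOK w n q (oneMat w n) := by
  refine ⟨(matCanon_one hq hq1).1, ?_⟩
  rw [(matCanon_one hq hq1).2]
  exact isUnit_one

/-- Soundness of packed matrices. -/
noncomputable def matSound (w n q : ℕ) (hq : q ≤ 2 ^ w) (hq1 : 1 < q)
    (hnq : n * (q - 1) ^ 2 < 2 ^ w) :
    Sound (G := GL (Fin n) (ZMod q)) (matOps w n q) where
  den := matDen w n q
  ok := MatOK w n q
  act _ p := p
  act_one _ := rfl
  act_mul _ _ _ := rfl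
  ok_one := matOK_one hq hq1
  den_one := Units.ext ((matDen_coe (matOK_one hq hq1)).trans (matCanon_one hq hq1).2)
  ok_mul {a b} ha hb :=
    ⟨(matCanon_mul hq (by omega) hnq ha.1.1 hb.1.1).1, by
      rw [show (matOps w n q).mul a b = mulMat w n q a b from rfl,
        (matCanon_mul hq (by omega) hnq ha.1.1 hb.1.1).2]
      exact ha.2.mul hb.2⟩
  den_mul {a b} ha hb := Units.ext (by
    show ((matDen w n q (mulMat w n q a b) : GL (Fin n) (ZMod q)) : Matrix (Fin n) (Fin n) (ZMod q)) = _
    rw [Units.val_mul, matDen_coe ha, matDen_coe hb, matDen_coe (a := mulMat w n q a b)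
      ⟨(matCanon_mul hq (by omega) hnq ha.1.1 hb.1.1).1, by
        rw [(matCanon_mul hq (by omega) hnq ha.1.1 hb.1.1).2]; exact ha.2.mul hb.2⟩]
    exact (matCanon_mul hq (by omega) hnq ha.1.1 hb.1.1).2)
  img_eq _ _ := rfl
  eqv_iff {a b} ha hb := by
    show Nat.beq a b = true ↔ _
    rw [Nat.beq_eq]
    refine ⟨fun h => by rw [h], fun h => matCanon_ext ha.1 hb.1 ?_⟩
    rw [← matDen_coe ha, ← matDen_coe hb, h]
  okInv_sound {a b} h := by
    have h' : invMat w n q a b = true := h
    simp only [invMat, validMat, Bool.and_eq_true, allN_iff, Nat.ble_eq, Nat.beq_eq,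
      Nat.add_one_le_iff] at h'
    obtain ⟨⟨⟨ha, hb⟩, hab⟩, hba⟩ := h'
    have e1 : toMat w n q a * toMat w n q b = 1 := by
      rw [← (matCanon_mul hq (by omega) hnq ha.1 hb.1).2, hab, (matCanon_one hq hq1).2]
    have e2 : toMat w n q b * toMat w n q a = 1 := by
      rw [← (matCanon_mul hq (by omega) hnq hb.1 ha.1).2, hba, (matCanon_one hq hq1).2]
    have oa : MatOK w n q a := ⟨ha, ⟨⟨_, _, e1, e2⟩, rfl⟩⟩
    have ob : MatOK w n q b := ⟨hb, ⟨⟨_, _, e2, e1⟩, rfl⟩⟩
    refine ⟨oa, ob, eq_inv_of_mul_eq_one_left (Units.ext ?_)⟩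
    rw [Units.val_mul, matDen_coe oa, matDen_coe ob, e2, Units.val_one]

/-- Identify a packed matrix with a given invertible matrix. -/
theorem matSound_den_eq {w n q : ℕ} (hq : q ≤ 2 ^ w) (hq1 : 1 < q)
    (hnq : n * (q - 1) ^ 2 < 2 ^ w) {a : ℕ}
    (ha : MatOK w n q a) (g : GL (Fin n) (ZMod q))
    (h : ∀ i j : Fin n, (g : Matrix (Fin n) (Fin n) (ZMod q)) i j = toMat w n q a i j) :
    (matSound w n q hq hq1 hnq).den a = g :=
  Units.ext ((matDen_coe ha).trans (Matrix.ext fun i j => (h i j).symm))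

end Cfsg.Agent.Compute
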